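import Groth.Agent.FLILib.Ev
import Groth.Agent.ExtShLib.Hcx

/-!
# Stalks of the complex computing the Ext sheaf of a closed subscheme
-/

set_option autoImplicit false
set_option linter.style.haveILetI false
set_option linter.unusedSectionVars false
set_option backward.isDefEq.respectTransparency false
set_option backward.isDefEq.respectTransparency.types false
universe u

open CategoryTheory CategoryTheory.Limits AlgebraicGeometry TopologicalSpace Opposite
open ProjFormLib (ger res ger_map exists_ger section_ext)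
open CohCmpLib (stk)
open ExtShLib (pO hcx)

noncomputable section

namespace FLI

variable {P : Scheme.{u}}

/-- The map on stalks. -/
abbrev sMap {A B : P.Modules} (φ : A ⟶ B) (y : P) : stk A y →ₗ[P.presheaf.stalk y] stk B y :=
  ((DerSch.stalkFunctor P y).map φ).hom

theorem sMap_comp {A B C : P.Modules} (φ : A ⟶ B) (ψ : B ⟶ C) (y : P) (a : stk A y) :
    sMap (φ ≫ ψ) y a = sMap ψ y (sMap φ y a) :=
  congrArg (fun f => f.hom a) ((DerSch.stalkFunctor P y).map_comp φ ψ)

theorem sMap_injective {A B : P.Modules} (φ : A ⟶ B) [Mono φ] (y : P) : Function.Injective (sMap φ y) :=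
  (ModuleCat.mono_iff_injective _).1 inferInstance

theorem sMap_surjective {A B : P.Modules} (φ : A ⟶ B) [Epi φ] (y : P) : Function.Surjective (sMap φ y) :=
  (ModuleCat.epi_iff_surjective _).1 inferInstance

theorem sMap_zero {A B : P.Modules} (y : P) (a : stk A y) : sMap (0 : A ⟶ B) y a = 0 :=
  congrArg (fun f => f.hom a) ((DerSch.stalkFunctor P y).map_zero A B)

theorem exists_of_exact {A B C : P.Modules} (f : A ⟶ B) (g : B ⟶ C) (w : f ≫ g = 0)
    (h : (ShortComplex.mk f g w).Exact) (y : P) {b : stk B y} (hb : sMap g y b = 0) : ∃ a, sMap f y a = b :=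
  (ShortComplex.moduleCat_exact_iff _).1 (h.map (DerSch.stalkFunctor P y)) b hb

section Resolution

variable {F : P.Modules} (I : InjectiveResolution F) (y : P)

/-- The stalks of the resolution. -/
abbrev JS (q : ℕ) : Type u := stk (I.cocomplex.X q) y

/-- Their differential. -/
def dS (q : ℕ) : JS I y q →ₗ[P.presheaf.stalk y] JS I y (q + 1) := sMap (I.cocomplex.d q (q + 1)) y

/-- The augmentation. -/
def εS : stk F y →ₗ[P.presheaf.stalk y] JS I y 0 := sMap (show F ⟶ I.cocomplex.X 0 from I.ι.f 0) y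

theorem dS_dS (q : ℕ) (x : JS I y q) : dS I y (q + 1) (dS I y q x) = 0 := by
  rw [dS, dS, ← sMap_comp, HomologicalComplex.d_comp_d, sMap_zero]

theorem dS_εS (m : stk F y) : dS I y 0 (εS I y m) = 0 := by
  rw [dS, εS, ← sMap_comp]
  have h : (show F ⟶ I.cocomplex.X 0 from I.ι.f 0) ≫ I.cocomplex.d 0 1 = 0 := I.ι_f_zero_comp_complex_d
  exact (congrArg (fun φ => sMap φ y m) h).trans (sMap_zero y m)

theorem colS (q : ℕ) (x : JS I y (q + 1)) (hx : dS I y (q + 1) x = 0) : ∃ z, dS I y q z = x := by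
  have h := (HomologicalComplex.exactAt_iff' I.cocomplex q (q + 1) (q + 1 + 1) (by simp) (by simp)).1
    (I.cocomplex_exactAt_succ q)
  exact exists_of_exact _ _ _ h y hx

theorem εS_injective : Function.Injective (εS I y) := by
  haveI : Mono (show F ⟶ I.cocomplex.X 0 from I.ι.f 0) := inferInstanceAs (Mono (I.ι.f 0))
  exact sMap_injective _ y

theorem colS0 (x : JS I y 0) (hx : dS I y 0 x = 0) : ∃ m, εS I y m = x :=
  exists_of_exact (show F ⟶ I.cocomplex.X 0 from I.ι.f 0) (I.cocomplex.d 0 1) I.ι_f_zero_comp_complex_d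
    (ShortComplex.exact_of_f_is_kernel (ShortComplex.mk (show F ⟶ I.cocomplex.X 0 from I.ι.f 0) (I.cocomplex.d 0 1)
      I.ι_f_zero_comp_complex_d) I.isLimitKernelFork) y hx

variable {X : Scheme.{u}} (ι : X ⟶ P) [IsClosedImmersion ι] (n : ℕ)

/-- The map to the resolution. -/
def jK (q : ℕ) : (hcx (pO ι) I).X q ⟶ I.cocomplex.X q := jEv ι _

theorem jK_d (q : ℕ) : (hcx (pO ι) I).d q (q + 1) ≫ jK I ι (q + 1) = jK I ι q ≫ I.cocomplex.d q (q + 1) :=
  jEv_natural (I.cocomplex.d q (q + 1))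

theorem jK_injective (q : ℕ) : Function.Injective (sMap (jK I ι q) y) := jEv_injective ι _ y

theorem sMap_jK_d (q : ℕ) (a : stk ((hcx (pO ι) I).X q) y) :
    sMap (jK I ι (q + 1)) y (sMap ((hcx (pO ι) I).d q (q + 1)) y a) = dS I y q (sMap (jK I ι q) y a) := by
  rw [dS, ← sMap_comp, ← sMap_comp, jK_d]

/-- `e` is the class of the killed cocycle `w`. -/
def Cls (w : JS I y n) (e : stk ((hcx (pO ι) I).homology n) y) : Prop :=
  ∃ z : stk ((hcx (pO ι) I).cycles n) y, sMap ((hcx (pO ι) I).homologyπ n) y z = e ∧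
    sMap (jK I ι n) y (sMap ((hcx (pO ι) I).iCycles n) y z) = w

variable {I y ι n} {w w' : JS I y n} {e e' : stk ((hcx (pO ι) I).homology n) y}

theorem Cls.unique (h : Cls I y ι n w e) (h' : Cls I y ι n w e') : e = e' := by
  obtain ⟨z, rfl, hz⟩ := h
  obtain ⟨z', rfl, hz'⟩ := h'
  congr 1
  exact sMap_injective _ y (jK_injective I y ι n (hz.trans hz'.symm))

theorem Cls.sub (h : Cls I y ι n w e) (h' : Cls I y ι n w' e') : Cls I y ι n (w - w') (e - e') := by
  obtain ⟨z, rfl, rfl⟩ := h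
  obtain ⟨z', rfl, rfl⟩ := h'
  exact ⟨z - z', map_sub _ _ _, by rw [map_sub, map_sub]⟩

theorem Cls.smul (a : P.presheaf.stalk y) (h : Cls I y ι n w e) : Cls I y ι n (a • w) (a • e) := by
  obtain ⟨z, rfl, rfl⟩ := h
  exact ⟨a • z, map_smul _ _ _, by rw [map_smul, map_smul]⟩

theorem Cls.closed (h : Cls I y ι n w e) : dS I y n w = 0 := by
  obtain ⟨z, -, rfl⟩ := h
  rw [← sMap_jK_d, ← sMap_comp ((hcx (pO ι) I).iCycles n), HomologicalComplex.iCycles_d, sMap_zero, map_zero]

variable {c : ℕ} {U : P.affineOpens} {g : Fin c → Γ(P, U.1)}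

theorem Cls.killed (hc : IsChart ι U g) (hy : y ∈ U.1) (h : Cls I y ι n w e) (j : Fin c) : gF hy g j • w = 0 := by
  obtain ⟨z, -, rfl⟩ := h
  exact hc.gF_smul_jEv hy j _

theorem exists_cls (hc : IsChart ι U g) (hy : y ∈ U.1) (w : JS I y n) (h1 : dS I y n w = 0)
    (h2 : ∀ j, gF hy g j • w = 0) : ∃ e, Cls I y ι n w e := by
  obtain ⟨a, ha⟩ := hc.exists_jEv hy w h2
  have ha' : sMap ((hcx (pO ι) I).d n (n + 1)) y a = 0 := by
    refine jK_injective I y ι (n + 1) ?_
    rw [sMap_jK_d, map_zero]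
    exact (congrArg (dS I y n) ha).trans h1
  obtain ⟨z, hz⟩ := exists_of_exact _ _ _
    (ShortComplex.exact_of_f_is_kernel (ShortComplex.mk ((hcx (pO ι) I).iCycles n) ((hcx (pO ι) I).d n (n + 1))
      (HomologicalComplex.iCycles_d _ _ _)) ((hcx (pO ι) I).cyclesIsKernel n (n + 1) (by simp))) y ha'
  exact ⟨_, z, rfl, (congrArg (sMap (jK I ι n) y) hz).trans ha⟩

theorem cls_surjective (e : stk ((hcx (pO ι) I).homology n) y) : ∃ w, Cls I y ι n w e := by
  obtain ⟨z, hz⟩ := sMap_surjective ((hcx (pO ι) I).homologyπ n) y e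
  exact ⟨_, z, hz, rfl⟩

theorem Cls.eq_zero_iff (hc : IsChart ι U g) (hy : y ∈ U.1) (h : Cls I y ι n w e) :
    e = 0 ↔ Bdy (gF hy g) (dS I y) n w := by
  obtain ⟨z, rfl, rfl⟩ := h
  cases n with
  | zero =>
    haveI : IsIso ((hcx (pO ι) I).homologyπ 0) :=
      (hcx (pO ι) I).isIso_homologyπ ((ComplexShape.up ℕ).prev 0) 0 rfl ((hcx (pO ι) I).shape _ _ (by simp))
    constructor
    · intro h0
      rw [← map_zero (sMap ((hcx (pO ι) I).homologyπ 0) y)] at h0
      show _ = (0 : JS I y 0)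
      rw [sMap_injective _ y h0, map_zero, map_zero]
    · intro h0
      have h1 : sMap ((hcx (pO ι) I).iCycles 0) y z = 0 := jK_injective I y ι 0 (h0.trans (map_zero _).symm)
      rw [sMap_injective _ y (h1.trans (map_zero _).symm), map_zero]
  | succ k =>
    constructor
    · intro h0
      obtain ⟨a, rfl⟩ := exists_of_exact _ _ _
        (ShortComplex.exact_of_g_is_cokernel (ShortComplex.mk ((hcx (pO ι) I).toCycles k (k + 1))
          ((hcx (pO ι) I).homologyπ (k + 1)) (HomologicalComplex.toCycles_comp_homologyπ _ _ _))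
          ((hcx (pO ι) I).homologyIsCokernel k (k + 1) (by simp))) y h0
      refine ⟨sMap (jK I ι k) y a, fun j => hc.gF_smul_jEv hy j a, ?_⟩
      rw [← sMap_jK_d, ← sMap_comp ((hcx (pO ι) I).toCycles k (k + 1)), HomologicalComplex.toCycles_i]
    · rintro ⟨r, hr, hr'⟩
      obtain ⟨a, ha⟩ := hc.exists_jEv hy r hr
      have h1 : sMap ((hcx (pO ι) I).iCycles (k + 1)) y z =
          sMap ((hcx (pO ι) I).iCycles (k + 1)) y (sMap ((hcx (pO ι) I).toCycles k (k + 1)) y a) := by
        refine jK_injective I y ι (k + 1) ?_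
        rw [← sMap_comp ((hcx (pO ι) I).toCycles k (k + 1)), HomologicalComplex.toCycles_i, sMap_jK_d]
        exact hr'.symm.trans (congrArg (dS I y k) ha.symm)
      rw [sMap_injective _ y h1, ← sMap_comp, HomologicalComplex.toCycles_comp_homologyπ, sMap_zero]

end Resolution

end FLI

end
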