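import Groth.Agent.FLILib.PullStalk
import Groth.Agent.FLILib.Stalks
import Groth.Agent.ConormalSecLib.Basic
import Groth.Agent.DetDegLib.Main
import Groth.Agent.KFlatLib.QCohPull
import Groth.Agent.SweepSix.ConormalSpec

/-!
# The frame of the conormal sheaf given by a regular family
-/

set_option autoImplicit false
set_option linter.style.haveILetI false
set_option linter.unusedSectionVars false
set_option backward.isDefEq.respectTransparency false
set_option backward.isDefEq.respectTransparency.types false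
universe u

open CategoryTheory CategoryTheory.Limits AlgebraicGeometry TopologicalSpace Opposite
open ProjFormLib (ger res ger_res ger_map ger_smul exists_ger section_ext)
open CohCmpLib (stk ger_zero)

noncomputable section

namespace FLI

/-- A regular family is quasi-regular. -/
theorem WReg.mem_of_sum_eq_zero {A : Type u} [CommRing A] : ∀ {c : ℕ} {g : Fin c → A}, WReg g →
    ∀ e : Fin c → A, ∑ j, e j * g j = 0 → ∀ j, e j ∈ Ideal.span (Set.range g) := by
  intro c
  induction c with
  | zero => exact fun _ _ _ j => j.elim0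
  | succ c ih =>
    intro g hg e he
    let g' : Fin c → A := fun j => g j.castSucc
    have himg : g '' {j | j < Fin.last c} = Set.range g' := by
      ext x
      constructor
      · rintro ⟨j, hj, rfl⟩
        obtain ⟨j, rfl⟩ := Fin.exists_castSucc_eq.2 (ne_of_lt hj)
        exact ⟨j, rfl⟩
      · rintro ⟨j, rfl⟩
        exact ⟨j.castSucc, Fin.castSucc_lt_last j, rfl⟩
    have hsub : Ideal.span (Set.range g') ≤ Ideal.span (Set.range g) :=
      Ideal.span_mono (Set.range_subset_iff.2 fun j => ⟨j.castSucc, rfl⟩)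
    rw [Fin.sum_univ_castSucc] at he
    have hlast : e (Fin.last c) ∈ Ideal.span (Set.range g') := by
      have := hg (Fin.last c) (e (Fin.last c)) (by
        rw [himg, mul_comm, eq_neg_of_add_eq_zero_right he]
        exact Ideal.neg_mem_iff _ |>.2 (sum_mem fun j _ => Ideal.mul_mem_left _ _ (Ideal.subset_span ⟨j, rfl⟩)))
      rwa [himg] at this
    obtain ⟨u, hu⟩ := (Ideal.mem_span_range_iff_exists_fun).1 hlast
    have hg' : WReg g' := fun i a ha => by
      have e : g '' {j | j < i.castSucc} = g' '' {j | j < i} := by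
        ext x
        constructor
        · rintro ⟨j, hj, rfl⟩
          obtain ⟨j, rfl⟩ := Fin.exists_castSucc_eq.2 (ne_of_lt (lt_trans hj (Fin.castSucc_lt_last i)))
          exact ⟨j, Fin.castSucc_lt_castSucc_iff.1 hj, rfl⟩
        · rintro ⟨j, hj, rfl⟩
          exact ⟨j.castSucc, Fin.castSucc_lt_castSucc_iff.2 hj, rfl⟩
      have := hg i.castSucc a (by rw [e]; exact ha)
      rwa [e] at this
    have h' := ih hg' (fun j => e j.castSucc + u j * g (Fin.last c)) (by
      refine Eq.trans ?_ he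
      rw [← hu, Finset.sum_mul, ← Finset.sum_add_distrib]
      exact Finset.sum_congr rfl fun j _ => by show _ * g j.castSucc = _ + u j * g j.castSucc * _; ring)
    intro j
    induction j using Fin.lastCases with
    | last => exact hsub hlast
    | cast j =>
      have := sub_mem (hsub (h' j)) (Ideal.mul_mem_left _ (u j) (Ideal.subset_span ⟨Fin.last c, rfl⟩))
      rwa [add_sub_cancel_right] at this

theorem WReg.mem_of_sum_mem_sq {A : Type u} [CommRing A] {c : ℕ} {g : Fin c → A} (hg : WReg g) (e : Fin c → A)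
    (he : ∑ j, e j * g j ∈ Ideal.span (Set.range g) * Ideal.span (Set.range g)) (j : Fin c) :
    e j ∈ Ideal.span (Set.range g) := by
  rw [← smul_eq_mul] at he
  obtain ⟨b, hb, hbs⟩ := (Submodule.mem_ideal_smul_span_iff_exists_sum _ g _).1 he
  rw [Finsupp.sum_fintype b (fun i a => a • g i) (fun i => zero_smul A (g i))] at hbs
  simp only [smul_eq_mul] at hbs
  have h := hg.mem_of_sum_eq_zero (fun j => e j - b j) (by
    simp only [sub_mul, Finset.sum_sub_distrib, hbs, sub_self]) j
  simpa using add_mem h (hb j)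

variable {P X : Scheme.{u}} {ι : X ⟶ P} [IsClosedImmersion ι] {c : ℕ} {U : P.affineOpens}
  {g : Fin c → Γ(P, U.1)}

theorem IsChart.app_eq_zero (h : IsChart ι U g) (j : Fin c) : ι.app U.1 (g j) = 0 := by
  have hj : g j ∈ ι.ker.ideal U := h.ideal_eq ▸ Ideal.subset_span ⟨j, rfl⟩
  rwa [Scheme.Hom.ker_apply, RingHom.mem_ker] at hj

/-- The family as sections of the ideal. -/
def IsChart.lifts (h : IsChart ι U g) (j : Fin c) : Γ(ClSub.idealMod ι.ker, U.1) :=
  ConormalSecLib.lift ι U.1 (g j) (h.app_eq_zero j)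

theorem IsChart.idealSect_lifts (h : IsChart ι U g) (j : Fin c) :
    OmegaSh.idealSect ι.ker U.1 (h.lifts j) = g j :=
  ConormalSecLib.idealSect_lift ι U.1 (g j) (h.app_eq_zero j)

/-- The preimage of a chart. -/
abbrev preA (U : P.affineOpens) (ι : X ⟶ P) [IsClosedImmersion ι] : X.affineOpens := ⟨ι ⁻¹ᵁ U.1, U.2.preimage ι⟩

/-- The classes of the family in the conormal sheaf. -/
def IsChart.eU (h : IsChart ι U g) (j : Fin c) : Γ(Omega.conormal ι, (preA U ι).1) :=
  OmegaSh.conormalSect ι U.1 (h.lifts j)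

theorem smul_oneS_injective (y : P) (r : P.presheaf.stalk y) (h : r • oneS y = 0) : r = 0 := by
  obtain ⟨W, hW, r, rfl⟩ := P.presheaf.exists_germ_eq r
  rw [← ger_smul_one, ← ger_zero (Coh.structureModule P) y hW] at h
  obtain ⟨W', h₁, h₂, hy', e⟩ := exists_res_eq hW hW _ _ h
  rw [← TopCat.Presheaf.germ_res_apply P.presheaf (homOfLE h₁) y hy' r]
  have e' : P.presheaf.map (homOfLE h₁).op r = 0 := e.trans (map_zero _)
  rw [e', map_zero]

/-- The inclusion of the ideal on stalks. -/
abbrev σI (ι : X ⟶ P) (y : P) : stk (ClSub.idealMod ι.ker) y →ₗ[P.presheaf.stalk y] stk (Coh.structureModule P) y :=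
  sMap (ClSub.idealModι ι.ker) y

theorem σI_injective (y : P) : Function.Injective (σI ι y) := by
  haveI : Mono (ClSub.idealModι ι.ker) :=
    inferInstanceAs (Mono (kernel.ι (ClSub.toSubscheme ι.ker)))
  exact sMap_injective _ y

theorem σI_ger {W : P.Opens} {y : P} (hy : y ∈ W) (s : Γ(ClSub.idealMod ι.ker, W)) :
    σI ι y (ger (ClSub.idealMod ι.ker) y hy s) =
      P.presheaf.germ W y hy (OmegaSh.idealSect ι.ker W s) • oneS y := by
  rw [← ger_smul_one]
  exact ger_map _ y hy s

theorem IsChart.σI_lifts (h : IsChart ι U g) {y : P} (hy : y ∈ U.1) (j : Fin c) :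
    σI ι y (ger (ClSub.idealMod ι.ker) y hy (h.lifts j)) = gF hy g j • oneS y := by
  rw [σI_ger, h.idealSect_lifts]

theorem IsChart.exists_σI (h : IsChart ι U g) {z : X} (hz : ι z ∈ U.1) (m : stk (ClSub.idealMod ι.ker) (ι z)) :
    ∃ r ∈ Ideal.span (Set.range (gF hz g)), σI ι (ι z) m = r • oneS (ι z) := by
  obtain ⟨W, hW, s, rfl⟩ := exists_ger _ _ m
  refine ⟨P.presheaf.germ W (ι z) hW (OmegaSh.idealSect ι.ker W s), ?_, σI_ger hW s⟩
  rw [← h.ker_stalkMap hz, RingHom.mem_ker]
  show (ι.stalkMap z) _ = 0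
  rw [Scheme.Hom.germ_stalkMap_apply]
  exact (congrArg _ (ConormalSecLib.app_idealSect ι W s)).trans (map_zero _)

/-- The classes form a frame. -/
theorem IsChart.frame (h : IsChart ι U g) (z : X) (hz : ι z ∈ U.1) :
    DetDegLib.FrameAt (Omega.conormal ι) h.eU (x := z) hz := by
  let A := P.presheaf.stalk (ι z)
  let K := Ideal.span (Set.range (gF hz g))
  let M := ClSub.idealMod ι.ker
  let ℓ : Fin c → stk M (ι z) := fun j => ger M (ι z) hz (h.lifts j)
  have hσ : ∀ r : Fin c → A, σI ι (ι z) (∑ j, r j • ℓ j) = (∑ j, r j * gF hz g j) • oneS (ι z) := by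
    intro r
    rw [map_sum, Finset.sum_smul]
    exact Finset.sum_congr rfl fun j _ => by rw [map_smul, h.σI_lifts hz j, smul_smul]
  have hcomb : ∀ r : Fin c → A, pG ι M z (∑ j, r j • ℓ j) =
      ∑ j, ι.stalkMap z (r j) • ger (Omega.conormal ι) z (U := (preA U ι).1) hz (h.eU j) := by
    intro r
    rw [map_sum]
    exact Finset.sum_congr rfl fun j _ => by
      rw [pG_smul]
      exact congrArg (_ • ·) (pG_ger ι M hz (h.lifts j))
  constructor
  · intro a b hab
    rw [← sub_eq_zero]
    have h0 : ∑ j, (a - b) j • ger (Omega.conormal ι) z (U := (preA U ι).1) hz (h.eU j) = 0 := by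
      simp only [Pi.sub_apply, sub_smul, Finset.sum_sub_distrib]
      exact sub_eq_zero.2 hab
    generalize a - b = d at h0 ⊢
    choose r hr using fun j => stalkMap_surjective' ι z (d j)
    have h1 : pG ι M z (∑ j, r j • ℓ j) = 0 := by
      rw [hcomb]
      simp only [hr]
      exact h0
    rw [pG_eq_zero_iff, h.ker_stalkMap hz] at h1
    have h2 : ∀ x ∈ K • (⊤ : Submodule A (stk M (ι z))), ∃ k ∈ K * K, σI ι (ι z) x = k • oneS (ι z) := by
      intro x hx
      refine Submodule.smul_induction_on hx (fun k hk m _ => ?_) ?_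
      · obtain ⟨k', hk', e⟩ := h.exists_σI hz m
        exact ⟨k * k', Ideal.mul_mem_mul hk hk', by rw [map_smul, e, smul_smul]⟩
      · rintro x y ⟨k, hk, e⟩ ⟨k', hk', e'⟩
        exact ⟨k + k', add_mem hk hk', by rw [map_add, e, e', add_smul]⟩
    obtain ⟨k, hk, e⟩ := h2 _ h1
    have h3 : ∑ j, r j * gF hz g j = k := sub_eq_zero.1 (smul_oneS_injective _ _ (by
      rw [sub_smul, ← hσ, e, sub_self]))
    funext j
    show d j = 0
    rw [← hr j]
    have h4 := (h.wreg_germ hz).mem_of_sum_mem_sq r (h3 ▸ hk) j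
    rw [← h.ker_stalkMap hz] at h4
    exact h4
  · intro x
    obtain ⟨m, rfl⟩ := pG_surjective ι M z x
    obtain ⟨k, hk, e⟩ := h.exists_σI hz m
    obtain ⟨r, rfl⟩ := (Ideal.mem_span_range_iff_exists_fun).1 hk
    refine ⟨fun j => ι.stalkMap z (r j), ?_⟩
    have h5 : ∑ j, r j • ℓ j = m := σI_injective (ι z) (by rw [hσ, e])
    rw [← h5, hcomb]
    rfl

section Wedge

variable {L : X.Modules}
  (φ : ∀ U : X.affineOpens, (L.val.obj (op U.1)) ≃ₗ[Γ(X, U.1)]
    ↥(⋀[Γ(X, U.1)]^c ((Omega.conormal ι).val.obj (op U.1))))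

/-- The wedge of the classes. -/
def IsChart.lam (h : IsChart ι U g) : Γ(L, (preA U ι).1) := DetDegLib.wsec φ (preA U ι) h.eU

variable (hφ : ∀ (U V : X.affineOpens) (h : V.1 ≤ U.1) (e : Fin c → (Omega.conormal ι).val.obj (op U.1)),
  L.val.map (homOfLE h).op ((φ U).symm (exteriorPower.ιMulti _ c e)) =
    (φ V).symm (exteriorPower.ιMulti _ c (fun j => (Omega.conormal ι).val.map (homOfLE h).op (e j))))

theorem isQCoh_conormal : Coh.IsQCoh (Omega.conormal ι) :=
  haveI := SweepSix.ConormalSpec.isQCoh_idealMod ι.ker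
  KFlatLib.isQCoh_pullback ι _

include hφ in
theorem IsChart.genAt_lam (h : IsChart ι U g) {z : X} (hz : ι z ∈ U.1) :
    AmpleLib.GenAt L (h.lam φ) (x := z) hz :=
  haveI := isQCoh_conormal (ι := ι)
  DetDegLib.frameAt_wsec φ hφ (preA U ι) h.eU h.frame hz

include hφ in
theorem IsChart.res_lam (h : IsChart ι U g) {V : P.affineOpens} (hVU : V.1 ≤ U.1)
    (h' : IsChart ι V (resFam hVU g)) {z : X} (hz : ι z ∈ V.1) :
    ger L z (U := (preA V ι).1) hz (h'.lam φ) = ger L z (U := (preA U ι).1) (hVU hz) (h.lam φ) := by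
  have hle : (preA V ι).1 ≤ (preA U ι).1 := fun a ha => hVU ha
  have e : L.presheaf.map (homOfLE hle).op (h.lam φ) = h'.lam φ := by
    refine (DetDegLib.wsec_res φ hφ (preA U ι) (preA V ι) hle h.eU).trans ?_
    refine congrArg (DetDegLib.wsec φ (preA V ι)) (funext fun j => ?_)
    have h1 : (ClSub.idealMod ι.ker).presheaf.map (homOfLE hVU).op (h.lifts j) = h'.lifts j := by
      refine ConormalSecLib.idealSect_injective ι V.1 ?_
      rw [ConormalSecLib.idealSect_map, h.idealSect_lifts, h'.idealSect_lifts]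
    show (Omega.conormal ι).presheaf.map (homOfLE hle).op (OmegaSh.conormalSect ι U.1 (h.lifts j)) =
      OmegaSh.conormalSect ι V.1 (h'.lifts j)
    rw [← h1]
    exact (ConcreteCategory.congr_hom
      ((((Scheme.Modules.pullbackPushforwardAdjunction ι).unit.app (ClSub.idealMod ι.ker)).mapPresheaf).naturality
        (homOfLE hVU).op) (h.lifts j)).symm
  rw [← e]
  exact ger_res L hle z hz _

/-- Two families on the same affine open. -/
theorem IsChart.lam_matrix (h : IsChart ι U g) {g' : Fin c → Γ(P, U.1)} (h' : IsChart ι U g')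
    (G : Matrix (Fin c) (Fin c) Γ(P, U.1)) (hG : ∀ j, g' j = ∑ i, G i j * g i) :
    h'.lam φ = ((G.map (ι.app U.1)).det • h.lam φ : Γ(L, (preA U ι).1)) := by
  haveI := isQCoh_conormal (ι := ι)
  refine DetDegLib.wsec_matrix φ (preA U ι) h.eU h'.eU h.frame (G.map (ι.app U.1)) fun j => ?_
  have h1 : h'.lifts j = ∑ i, G i j • h.lifts i := by
    refine ConormalSecLib.idealSect_injective ι U.1 ?_
    rw [h'.idealSect_lifts, map_sum, hG j]
    exact Finset.sum_congr rfl fun i _ => by rw [ConormalSecLib.idealSect_smul, h.idealSect_lifts]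
  show OmegaSh.conormalSect ι U.1 (h'.lifts j) = _
  rw [h1, map_sum]
  exact Finset.sum_congr rfl fun i _ => OmegaSh.pullSect_smul ι _ U.1 (G i j) (h.lifts i)

end Wedge

end FLI

end
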