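import Groth.Agent.FLILib.Theta
import Groth.Agent.FLILib.Conormal
import Groth.Agent.EtTwoLib.BasisHom

/-!
# The fundamental local isomorphism
-/

set_option autoImplicit false
set_option linter.style.haveILetI false
set_option linter.unusedSectionVars false
set_option backward.isDefEq.respectTransparency false
set_option backward.isDefEq.respectTransparency.types false
universe u

open CategoryTheory CategoryTheory.Limits AlgebraicGeometry TopologicalSpace Opposite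
open ProjFormLib (ger res ger_res ger_map ger_smul exists_ger section_ext ger_add)
open CohCmpLib (stk ger_zero homMod hVal happ ger_happ homMod_ext exists_section_of_germs homSec)
open ExtShLib (pO hcx)

noncomputable section

namespace FLI

variable {P X : Scheme.{u}} {ι : X ⟶ P} [IsClosedImmersion ι] {c : ℕ} {F : P.Modules}
  (I : InjectiveResolution F) {L : X.Modules}
  (φ₀ : ∀ U : X.affineOpens, (L.val.obj (op U.1)) ≃ₗ[Γ(X, U.1)]
    ↥(⋀[Γ(X, U.1)]^c ((Omega.conormal ι).val.obj (op U.1))))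
  (hφ : ∀ (U V : X.affineOpens) (h : V.1 ≤ U.1) (e : Fin c → (Omega.conormal ι).val.obj (op U.1)),
    L.val.map (homOfLE h).op ((φ₀ U).symm (exteriorPower.ιMulti _ c e)) =
      (φ₀ V).symm (exteriorPower.ιMulti _ c (fun j => (Omega.conormal ι).val.map (homOfLE h).op (e j))))

set_option quotPrecheck false in
local notation "GF" => (Scheme.Modules.pullback ι).obj F

include hφ in
/-- Independence of the chart. -/
theorem theta_indep {z : X} {U U' : P.affineOpens} {g : Fin c → Γ(P, U.1)} {g' : Fin c → Γ(P, U'.1)}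
    (h : IsChart ι U g) (hz : ι z ∈ U.1) (h' : IsChart ι U' g') (hz' : ι z ∈ U'.1) (m m' : stk F (ι z))
    (v : stk L z →ₗ[X.presheaf.stalk z] stk GF z)
    (hm : pG ι F z m = v (ger L z (U := (preA U ι).1) hz (h.lam φ₀)))
    (hm' : pG ι F z m' = v (ger L z (U := (preA U' ι).1) hz' (h'.lam φ₀))) :
    theta I h hz m = theta I h' hz' m' := by
  obtain ⟨a, a', e, hza⟩ := exists_basicOpen_le_affine_inter U.2 U'.2 (ι z) ⟨hz, hz'⟩
  let V : P.affineOpens := ⟨P.basicOpen a, U.2.basicOpen a⟩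
  have hVU : V.1 ≤ U.1 := P.basicOpen_le a
  have hVU' : V.1 ≤ U'.1 := e.trans_le (P.basicOpen_le a')
  have hV : IsChart ι V (resFam hVU g) := h.basicOpen a
  have hV' : IsChart ι V (resFam hVU' g') := by
    have hbig : IsChart ι ⟨P.basicOpen a', U'.2.basicOpen a'⟩ (resFam (P.basicOpen_le a') g') := h'.basicOpen a'
    obtain ⟨W, hW, hWe⟩ : ∃ (W : P.affineOpens) (hWU : W.1 ≤ U'.1), W = V ∧ IsChart ι W (resFam hWU g') :=
      ⟨⟨P.basicOpen a', U'.2.basicOpen a'⟩, P.basicOpen_le a', Subtype.ext e.symm, hbig⟩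
    obtain ⟨rfl, hWc⟩ := hWe
    exact hWc
  have hG' : ∀ j, ∃ f : Fin c → Γ(P, V.1), ∑ i, f i * resFam hVU g i = resFam hVU' g' j := fun j => by
    refine (Ideal.mem_span_range_iff_exists_fun).1 ?_
    rw [← hV.ideal_eq, hV'.ideal_eq]
    exact Ideal.subset_span ⟨j, rfl⟩
  choose f hf using hG'
  let M : Matrix (Fin c) (Fin c) Γ(P, V.1) := fun i j => f j i
  have hlam := hV.lam_matrix φ₀ hV' M fun j => (hf j).symm
  let d : P.presheaf.stalk (ι z) := P.presheaf.germ V.1 (ι z) hza M.det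
  have hlamz : ger L z (U := (preA V ι).1) hza (hV'.lam φ₀) =
      ι.stalkMap z d • ger L z (U := (preA V ι).1) hza (hV.lam φ₀) := by
    rw [hlam, ger_smul]
    refine congrArg (· • _) ?_
    show X.presheaf.germ (ι ⁻¹ᵁ V.1) z hza _ = ι.stalkMap z (P.presheaf.germ V.1 (ι z) hza M.det)
    rw [Scheme.Hom.germ_stalkMap_apply]
    exact congrArg _ (RingHom.map_det (ι.app V.1).hom M).symm
  rw [h.res_lam φ₀ hφ hVU hV hza, h'.res_lam φ₀ hφ hVU' hV' hza] at hlamz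
  have hdiff : pG ι F z (m' - d • m) = 0 := by
    rw [map_sub, pG_smul, hm', hm, hlamz, map_smul, sub_self]
  rw [pG_eq_zero_iff, h'.ker_stalkMap hz', ← theta_eq_zero_iff (I := I) h' hz', map_sub, sub_eq_zero] at hdiff
  rw [hdiff]
  let T := Matrix.toLin' (M.map (P.presheaf.germ V.1 (ι z) hza).hom)
  have hT : ∀ x, lf (gF hza (resFam hVU g)) (T x) = lf (gF hza (resFam hVU' g')) x := by
    intro x
    simp only [lf_apply, T, Matrix.toLin'_apply, Matrix.mulVec, dotProduct, Finset.sum_mul]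
    rw [Finset.sum_comm]
    refine Finset.sum_congr rfl fun j _ => ?_
    rw [gF, ← hf j, map_sum, Finset.mul_sum]
    exact Finset.sum_congr rfl fun i _ => by
      show (P.presheaf.germ V.1 (ι z) hza (f j i)) * x j * _ = x j * _
      rw [map_mul]; ring
  have hdet : LinearMap.det T = d := (LinearMap.det_toLin' _).trans (RingHom.map_det _ M).symm
  have h1 := theta_comap (I := I) hV hza hV' hza T hT m
  rw [hdet] at h1
  rw [theta_congr hV' hza h' hz' (gF_resFam hVU' hza g'), h1,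
    theta_congr h hz hV hza (gF_resFam hVU hza g).symm]

/-- Characterisation of the image of a local homomorphism. -/
def Spec' {V : P.Opens} (ψ : Γ(homMod L GF, ι ⁻¹ᵁ V)) (e : Γ((hcx (pO ι) I).homology c, V)) : Prop :=
  ∀ (z : X) (hz : ι z ∈ V) (U : P.affineOpens) (g : Fin c → Γ(P, U.1)) (h : IsChart ι U g) (hzU : ι z ∈ U.1)
    (m : stk F (ι z)), pG ι F z m = hVal ψ z hz (ger L z (U := (preA U ι).1) hzU (h.lam φ₀)) →
    ger ((hcx (pO ι) I).homology c) (ι z) hz e = theta I h hzU m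

variable {I}

theorem kil_homology (n : ℕ) : CycKSuppLib.Kil ι ((hcx (pO ι) I).homology n) :=
  ((ExtShLib.kil_homMod ι (I.cocomplex.X n)).of_mono ((hcx (pO ι) I).iCycles n)).of_epi ((hcx (pO ι) I).homologyπ n)

theorem subsingleton_homology_stalk (n : ℕ) {y : P} (hy : y ∉ Set.range ⇑ι) :
    Subsingleton (stk ((hcx (pO ι) I).homology n) y) :=
  not_not.mp fun hs => hy ((kil_homology n).1 hs)

variable (hcov : ∀ z : X, ∃ (U : P.affineOpens) (g : Fin c → Γ(P, U.1)), ι z ∈ U.1 ∧ IsChart ι U g)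

include hcov in
theorem spec_unique {V : P.Opens} {ψ : Γ(homMod L GF, ι ⁻¹ᵁ V)} {e e' : Γ((hcx (pO ι) I).homology c, V)}
    (he : Spec' I φ₀ ψ e) (he' : Spec' I φ₀ ψ e') : e = e' := by
  refine section_ext _ _ fun y hy => ?_
  by_cases hr : y ∈ Set.range ⇑ι
  · obtain ⟨z, rfl⟩ := hr
    obtain ⟨U, g, hzU, h⟩ := hcov z
    obtain ⟨m, hm⟩ := pG_surjective ι F z (hVal ψ z hy (ger L z (U := (preA U ι).1) hzU (h.lam φ₀)))
    rw [he z hy U g h hzU m hm, he' z hy U g h hzU m hm]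
  · exact @Subsingleton.elim _ (subsingleton_homology_stalk c hr) _ _

theorem spec_res {V V' : P.Opens} (hV : V' ≤ V) {ψ : Γ(homMod L GF, ι ⁻¹ᵁ V)}
    {e : Γ((hcx (pO ι) I).homology c, V)} (he : Spec' I φ₀ ψ e) :
    Spec' I φ₀ (res (homMod L GF) (show ι ⁻¹ᵁ V' ≤ ι ⁻¹ᵁ V from fun a ha => hV ha) ψ)
      (res ((hcx (pO ι) I).homology c) hV e) := by
  intro z hz U g h hzU m hm
  rw [ger_res]
  exact he z (hV hz) U g h hzU m hm

include hφ in
/-- Over a small chart a lift of the value at the wedge gives the image. -/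
theorem exists_spec_chart {V : P.affineOpens} {g : Fin c → Γ(P, V.1)} (h : IsChart ι V g)
    (ψ : Γ(homMod L GF, ι ⁻¹ᵁ V.1)) (m : Γ(F, V.1))
    (hm : ∀ z (hz : ι z ∈ V.1), pG ι F z (ger F (ι z) hz m) =
      hVal ψ z hz (ger L z (U := (preA V ι).1) hz (h.lam φ₀))) :
    ∃ e : Γ((hcx (pO ι) I).homology c, V.1), Spec' I φ₀ ψ e ∧
      ∀ z (hz : ι z ∈ V.1), ger ((hcx (pO ι) I).homology c) (ι z) hz e = theta I h hz (ger F (ι z) hz m) := by
  obtain ⟨e, he⟩ := exists_theta_section I h m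
  exact ⟨e, fun z hz U g' h' hzU m' hm' =>
    (he (ι z) hz).trans (theta_indep I φ₀ hφ h hz h' hzU _ _ _ (hm z hz) hm'), fun z hz => he (ι z) hz⟩

include hφ hcov in
theorem exists_spec {V : P.Opens} (ψ : Γ(homMod L GF, ι ⁻¹ᵁ V)) :
    ∃ e : Γ((hcx (pO ι) I).homology c, V), Spec' I φ₀ ψ e := by
  have hloc : ∀ y : V, ∃ (W : P.Opens) (hW : W ≤ V), y.1 ∈ W ∧ ∃ e : Γ((hcx (pO ι) I).homology c, W),
      Spec' I φ₀ (res (homMod L GF) (show ι ⁻¹ᵁ W ≤ ι ⁻¹ᵁ V from fun a ha => hW ha) ψ) e := by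
    intro y
    by_cases hr : y.1 ∈ Set.range ⇑ι
    · obtain ⟨z, hz⟩ := hr
      have hzV : ι z ∈ V := hz ▸ y.2
      obtain ⟨U₀, g₀, hzU₀, h₀⟩ := hcov z
      obtain ⟨U₁, hU₁, hzU₁, hU₁V, h₁⟩ := h₀.exists_le hzU₀ hzV
      let σ := happ (res (homMod L GF) (show ι ⁻¹ᵁ U₁.1 ≤ ι ⁻¹ᵁ V from fun a ha => hU₁V ha) ψ) (h₁.lam φ₀)
      obtain ⟨m₀, hm₀⟩ := pG_surjective ι F z (ger GF z (U := (preA U₁ ι).1) hzU₁ σ)
      obtain ⟨O, hzO, m, rfl⟩ := exists_ger F (ι z) m₀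
      rw [pG_ger] at hm₀
      obtain ⟨W₂, h₂, h₂', hzW₂, e₂⟩ := exists_res_eq (show z ∈ ι ⁻¹ᵁ O from hzO)
        (show z ∈ (preA U₁ ι).1 from hzU₁) _ _ hm₀
      obtain ⟨O₂, hO₂, hO₂e⟩ := ι.isClosedEmbedding.isInducing.isOpen_iff.mp W₂.2
      have hzO₂ : ι z ∈ (⟨O₂, hO₂⟩ : P.Opens) := by
        have : z ∈ ι ⁻¹' O₂ := hO₂e.symm ▸ hzW₂
        exact this
      obtain ⟨U₂, hU₂, hzU₂, hU₂D, h₂c⟩ := h₁.exists_le hzU₁ (O := ⟨O₂, hO₂⟩ ⊓ O) ⟨hzO₂, hzO⟩
      have hW : U₂.1 ≤ V := hU₂.trans hU₁V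
      obtain ⟨e, he, -⟩ := exists_spec_chart (I := I) φ₀ hφ h₂c
        (res (homMod L GF) (show ι ⁻¹ᵁ U₂.1 ≤ ι ⁻¹ᵁ V from fun a ha => hW ha) ψ)
        (res F (hU₂D.trans inf_le_right) m) fun x hx => by
          have hxW : x ∈ W₂ := by
            have : x ∈ ι ⁻¹' O₂ := (hU₂D hx).1
            rwa [hO₂e] at this
          rw [ger_res, pG_ger, ← ger_res GF h₂ x hxW, e₂, ger_res, ger_happ,
            h₁.res_lam φ₀ hφ hU₂ h₂c hx]
          rfl
      exact ⟨U₂.1, hW, hz ▸ hzU₂, e, he⟩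
    · refine ⟨V ⊓ ⟨(Set.range ⇑ι)ᶜ, ι.isClosedEmbedding.isClosed_range.isOpen_compl⟩, inf_le_left,
        ⟨y.2, hr⟩, 0, fun z hz => absurd (Set.mem_range_self z) hz.2⟩
  choose W hW hyW e he using hloc
  obtain ⟨t, ht⟩ := exists_section_of_germs ((hcx (pO ι) I).homology c)
    (fun y : V => ger ((hcx (pO ι) I).homology c) y.1 (hyW y) (e y)) fun y => by
      refine ⟨W y, hW y, hyW y, e y, fun x hx => ?_⟩
      show ger _ x hx (e y) = ger _ x (hyW ⟨x, hW y hx⟩) (e ⟨x, hW y hx⟩)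
      have hd : x ∈ W y ⊓ W ⟨x, hW y hx⟩ := ⟨hx, hyW _⟩
      rw [← ger_res _ (inf_le_left : W y ⊓ W ⟨x, hW y hx⟩ ≤ W y) x hd,
        ← ger_res _ (inf_le_right : W y ⊓ W ⟨x, hW y hx⟩ ≤ W ⟨x, hW y hx⟩) x hd]
      refine congrArg (ger _ x hd) (spec_unique (I := I) φ₀ hcov
        (ψ := res (homMod L GF) (show ι ⁻¹ᵁ (W y ⊓ W ⟨x, hW y hx⟩) ≤ ι ⁻¹ᵁ V from fun a ha => hW y ha.1) ψ) ?_ ?_)
      · intro z hz U g h hzU m hm
        rw [ger_res]
        exact he y z hz.1 U g h hzU m hm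
      · intro z hz U g h hzU m hm
        rw [ger_res]
        exact he ⟨x, hW y hx⟩ z hz.2 U g h hzU m hm
  refine ⟨t, fun z hz U g h hzU m hm => ?_⟩
  rw [ht (ι z) hz]
  exact he ⟨ι z, hz⟩ z (hyW _) U g h hzU m hm

include hφ hcov in
theorem exists_hom : ∃ Φ : (Scheme.Modules.pushforward ι).obj (homMod L GF) ⟶ (hcx (pO ι) I).homology c,
    ∀ (V : P.Opens) (ψ : Γ(homMod L GF, ι ⁻¹ᵁ V)), Spec' I φ₀ ψ (Φ.app V ψ) := by
  let Φ₀ : ∀ V : P.Opens, Γ(homMod L GF, ι ⁻¹ᵁ V) → Γ((hcx (pO ι) I).homology c, V) :=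
    fun V ψ => (exists_spec (I := I) φ₀ hφ hcov ψ).choose
  have hΦ : ∀ V ψ, Spec' I φ₀ ψ (Φ₀ V ψ) := fun V ψ => (exists_spec (I := I) φ₀ hφ hcov ψ).choose_spec
  have hadd : ∀ V ψ ψ', Φ₀ V (ψ + ψ') = Φ₀ V ψ + Φ₀ V ψ' := by
    intro V ψ ψ'
    refine spec_unique (I := I) φ₀ hcov (hΦ V (ψ + ψ')) fun z hz U g h hzU m hm => ?_
    obtain ⟨m₁, hm₁⟩ := pG_surjective ι F z (hVal ψ z hz (ger L z (U := (preA U ι).1) hzU (h.lam φ₀)))
    rw [CohCmpLib.hVal_add, LinearMap.add_apply] at hm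
    rw [ger_add, hΦ V ψ z hz U g h hzU m₁ hm₁,
      hΦ V ψ' z hz U g h hzU (m - m₁) (by rw [map_sub, hm, hm₁, add_sub_cancel_left]), ← map_add, add_sub_cancel]
  have hsmul : ∀ V (r : Γ(P, V)) ψ, Φ₀ V (ι.app V r • ψ) = r • Φ₀ V ψ := by
    intro V r ψ
    refine spec_unique (I := I) φ₀ hcov (hΦ V _) fun z hz U g h hzU m hm => ?_
    obtain ⟨m₁, hm₁⟩ := pG_surjective ι F z (hVal ψ z hz (ger L z (U := (preA U ι).1) hzU (h.lam φ₀)))
    rw [ger_smul, hΦ V ψ z hz U g h hzU m₁ hm₁, ← map_smul]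
    refine theta_indep I φ₀ hφ h hzU h hzU _ _ (hVal (ι.app V r • ψ) z hz) ?_ hm
    rw [pG_smul, hm₁, CohCmpLib.hVal_smul, LinearMap.smul_apply, Scheme.Hom.germ_stalkMap_apply]
  let S : P.Opens → P.Opens := id
  obtain ⟨Φ, hΦ'⟩ := EtTwoLib.exists_hom_of_basis (E := (Scheme.Modules.pushforward ι).obj (homMod L GF))
    (P := (hcx (pO ι) I).homology c) S (by rw [Set.range_id]; exact (Opens.isBasis_iff_nbhd.2 fun hx =>
      ⟨_, Set.mem_univ _, hx, le_rfl⟩))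
    (fun V => AddMonoidHom.mk' (fun ψ => Φ₀ V ψ) (hadd V))
    (fun V W hWV ψ => spec_unique (I := I) φ₀ hcov (spec_res (I := I) φ₀ hWV (hΦ V ψ)) (hΦ W _))
    (fun V r ψ => hsmul V r ψ)
  exact ⟨Φ, fun V ψ => by rw [show Φ.app V ψ = Φ₀ V ψ from hΦ' V ψ]; exact hΦ V ψ⟩

include hφ hcov in
theorem nonempty_iso :
    Nonempty ((Scheme.Modules.pushforward ι).obj (homMod L GF) ≅ (hcx (pO ι) I).homology c) := by
  obtain ⟨Φ, hΦ⟩ := exists_hom (I := I) φ₀ hφ hcov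
  suffices IsIso Φ from ⟨asIso Φ⟩
  refine KFlatLib.isIso_of_stalks Φ fun y => ?_
  rw [ConcreteCategory.isIso_iff_bijective]
  by_cases hr : y ∈ Set.range ⇑ι
  swap
  · haveI := subsingleton_homology_stalk (I := I) c hr
    haveI : Subsingleton (stk ((Scheme.Modules.pushforward ι).obj (homMod L GF)) y) :=
      ProjClosedImmLib.subsingleton_stalk ι (homMod L GF) hr
    exact ⟨Function.injective_of_subsingleton _, fun b => ⟨0, Subsingleton.elim _ _⟩⟩
  obtain ⟨z, rfl⟩ := hr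
  constructor
  · refine (injective_iff_map_eq_zero ((DerSch.stalkFunctor P (ι z)).map Φ).hom).2 fun a ha => ?_
    obtain ⟨V, hzV, ψ, rfl⟩ := exists_ger ((Scheme.Modules.pushforward ι).obj (homMod L GF)) (ι z) a
    rw [ger_map] at ha
    obtain ⟨U₀, g₀, hzU₀, h₀⟩ := hcov z
    obtain ⟨U, hU, hzU, hUV, h⟩ := h₀.exists_le hzU₀ hzV
    obtain ⟨m, hm⟩ := pG_surjective ι F z (hVal ψ z hzV (ger L z (U := (preA U ι).1) hzU (h.lam φ₀)))
    have h1 := hΦ V ψ z hzV U _ h hzU m hm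
    rw [ha] at h1
    have h2 := (theta_eq_zero_iff h hzU m).1 h1.symm
    rw [← h.ker_stalkMap hzU, ← pG_eq_zero_iff, hm] at h2
    have hle : (preA U ι).1 ≤ ι ⁻¹ᵁ V := fun a ha => hUV ha
    have h3 : ger GF z (U := (preA U ι).1) hzU (happ (res (homMod L GF) hle ψ) (h.lam φ₀)) = 0 := by
      rw [ger_happ]
      exact h2
    rw [← ger_zero GF z (show z ∈ (preA U ι).1 from hzU)] at h3
    obtain ⟨W', hW₁, hW₁', hzW', e'⟩ := exists_res_eq (show z ∈ (preA U ι).1 from hzU)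
      (show z ∈ (preA U ι).1 from hzU) _ _ h3
    have h4 : res (homMod L GF) (hW₁.trans hle) (show Γ(homMod L GF, ι ⁻¹ᵁ V) from ψ) = 0 := by
      refine homMod_ext fun x hx => LinearMap.ext fun l => ?_
      obtain ⟨s, rfl⟩ := (h.genAt_lam φ₀ hφ (show ι x ∈ U.1 from hW₁ hx)).2 l
      have h5 : hVal ψ x (hle (hW₁ hx)) (ger L x (U := (preA U ι).1) (hW₁ hx) (h.lam φ₀)) = 0 := by
        have h6 := congrArg (ger GF x hx) e'
        rw [ger_res, ger_res, ger_happ, ger_zero] at h6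
        exact h6
      show hVal (res (homMod L GF) (hW₁.trans hle) ψ) x hx
        (s • ger L x (U := (preA U ι).1) (hW₁ hx) (h.lam φ₀)) = _
      rw [map_smul, CohCmpLib.hVal_res, h5, smul_zero]
      exact (LinearMap.zero_apply _).symm
    refine (ProjClosedImmLib.pS_bijective ι z (homMod L GF)).1 ?_
    rw [map_zero]
    refine (ProjClosedImmLib.pS_germ ι z (homMod L GF) hzV ψ).trans ?_
    show ger (homMod L GF) z (U := ι ⁻¹ᵁ V) hzV ψ = 0
    rw [← ger_res (homMod L GF) (hW₁.trans hle) z hzW', h4, ger_zero]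
  · intro b
    obtain ⟨U₀, g₀, hzU₀, h₀⟩ := hcov z
    obtain ⟨m₀, rfl⟩ := theta_surjective (I := I) h₀ hzU₀ b
    obtain ⟨O, hzO, m, rfl⟩ := exists_ger F (ι z) m₀
    obtain ⟨U, hU, hzU, hUO, h⟩ := h₀.exists_le hzU₀ hzO
    let m' := res F hUO m
    have hmem : (fun x : ↥(preA U ι).1 => (LinearMap.toSpanSingleton _ _
          (pG ι F x.1 (ger F (ι x.1) x.2 m'))).comp
        (LinearEquiv.ofBijective (LinearMap.toSpanSingleton (X.presheaf.stalk x.1) (stk L x.1)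
          (ger L x.1 x.2 (h.lam φ₀))) (h.genAt_lam φ₀ hφ x.2)).symm.toLinearMap) ∈
        homSec L GF (preA U ι).1 := by
      intro T hT l
      refine exists_section_of_germs GF (fun x : T => (LinearMap.toSpanSingleton _ _
          (pG ι F x.1 (ger F (ι x.1) (hT x.2) m'))).comp
        (LinearEquiv.ofBijective (LinearMap.toSpanSingleton (X.presheaf.stalk x.1) (stk L x.1)
          (ger L x.1 (hT x.2) (h.lam φ₀))) (h.genAt_lam φ₀ hφ (hT x.2))).symm.toLinearMap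
            (ger L x.1 x.2 l)) fun x => ?_
      obtain ⟨s, hs⟩ := (h.genAt_lam φ₀ hφ (show ι x.1 ∈ U.1 from hT x.2)).2 (ger L x.1 x.2 l)
      obtain ⟨T₀, hx₀, s, rfl⟩ := X.presheaf.exists_germ_eq s
      have hx1 : x.1 ∈ T₀ ⊓ T := ⟨hx₀, x.2⟩
      have e1 : ger L x.1 hx1 (X.presheaf.map (homOfLE (inf_le_left : T₀ ⊓ T ≤ T₀)).op s •
          res L ((inf_le_right : T₀ ⊓ T ≤ T).trans hT) (h.lam φ₀)) =
          ger L x.1 hx1 (res L (inf_le_right : T₀ ⊓ T ≤ T) l) := by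
        rw [ger_smul, ger_res, ger_res, TopCat.Presheaf.germ_res_apply]
        exact hs
      obtain ⟨T₁, h₁, h₁', hx₁, e⟩ := exists_res_eq hx1 hx1 _ _ e1
      have hT₁ : T₁ ≤ T := h₁.trans inf_le_right
      refine ⟨T₁, hT₁, hx₁, X.presheaf.map (homOfLE (h₁.trans inf_le_left)).op s •
        res GF (hT₁.trans hT) (KFlatLib.puSec ι m'), fun a ha => ?_⟩
      have ea := congrArg (ger L a ha) e
      rw [ger_res, ger_res, ger_smul, ger_res, ger_res, TopCat.Presheaf.germ_res_apply] at ea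
      rw [ger_smul, ger_res, TopCat.Presheaf.germ_res_apply, ← ea, LinearMap.comp_apply, LinearEquiv.coe_coe,
        show (LinearEquiv.ofBijective _ _).symm
          (X.presheaf.germ T₀ a (h₁ ha).1 s • ger L a (hT (hT₁ ha)) (h.lam φ₀)) = X.presheaf.germ T₀ a (h₁ ha).1 s from
          (LinearEquiv.ofBijective _ _).symm_apply_apply _, LinearMap.toSpanSingleton_apply, pG_ger]
    let ψ : Γ(homMod L GF, ι ⁻¹ᵁ U.1) := (show Γ(homMod L GF, (preA U ι).1) from ⟨_, hmem⟩)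
    refine ⟨ger ((Scheme.Modules.pushforward ι).obj (homMod L GF)) (ι z) hzU
      (show Γ((Scheme.Modules.pushforward ι).obj (homMod L GF), U.1) from ψ), ?_⟩
    rw [ger_map]
    have hval : hVal ψ z hzU (ger L z (U := (preA U ι).1) hzU (h.lam φ₀)) = pG ι F z (ger F (ι z) hzU m') := by
      show (LinearMap.toSpanSingleton (X.presheaf.stalk z) (stk GF z) (pG ι F z (ger F (ι z) hzU m')))
        ((LinearEquiv.ofBijective (LinearMap.toSpanSingleton (X.presheaf.stalk z) (stk L z)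
          (ger L z (U := (preA U ι).1) hzU (h.lam φ₀))) (h.genAt_lam φ₀ hφ hzU)).symm
            (ger L z (U := (preA U ι).1) hzU (h.lam φ₀))) = _
      rw [show (LinearEquiv.ofBijective (LinearMap.toSpanSingleton (X.presheaf.stalk z) (stk L z)
          (ger L z (U := (preA U ι).1) hzU (h.lam φ₀))) (h.genAt_lam φ₀ hφ hzU)).symm
            (ger L z (U := (preA U ι).1) hzU (h.lam φ₀)) = 1 from
          (LinearEquiv.symm_apply_eq _).2 (one_smul (X.presheaf.stalk z) (ger L z (U := (preA U ι).1) hzU (h.lam φ₀))).symm, LinearMap.toSpanSingleton_apply, one_smul]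
    rw [hΦ U.1 ψ z hzU U _ h hzU _ hval.symm]
    refine (theta_congr h₀ hzU₀ h hzU (gF_resFam hU hzU g₀).symm _).trans ?_
    rw [ger_res]

end FLI

end
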