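import Groth.Agent.FLILib.Conormal
import Groth.Agent.TwistLib.PullGen
import Groth.Agent.MiscFlat6.InvDual
import Groth.Agent.VBP1Lib.Tensor
import Groth.Agent.HomCohLib.Adj
import Groth.Agent.ExtShLib.Hcx

/-!
# The determinant of the conormal sheaf is invertible; homomorphisms out of an invertible module
-/

set_option autoImplicit false
set_option linter.style.haveILetI false
set_option linter.unusedSectionVars false
set_option backward.isDefEq.respectTransparency false
set_option backward.isDefEq.respectTransparency.types false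
set_option maxHeartbeats 1000000
universe u

open CategoryTheory CategoryTheory.Limits AlgebraicGeometry TopologicalSpace Opposite
open CohCmpLib (homMod)

noncomputable section

namespace FLI

variable {X : Scheme.{u}}

/-- `Hom(L, N) ≅ M ⊗ N` for inverse modules `L`, `M`. -/
def homModIso {L M : X.Modules} (e : CohB1.tensorMod L M ≅ Coh.structureModule X) (N : X.Modules) :
    homMod L N ≅ CohB1.tensorMod M N :=
  ((HomCohLib.homAdj L).rightAdjointUniq (VBP1Lib.inverseEquiv e).toAdjunction).app N

/-- `G ⊗ Hom(L, O) ≅ Hom(L, G)` for invertible `L`. -/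
theorem nonempty_tensor_dual_iso {L : X.Modules} (hL : PicF.IsInvertible L) (G : X.Modules) :
    Nonempty (CohB1.tensorMod G (homMod L (Coh.structureModule X)) ≅ homMod L G) := by
  obtain ⟨e⟩ := MiscFlat6.nonempty_dualIso hL
  exact ⟨((DCoh.tensorBi (X := X)).obj G).mapIso (homModIso e _ ≪≫
      KFlatLib.tensSwap (Coh.structureModule X) (MiscFlat6.dual L) ≪≫ KFlatLib.tensUnitIso _) ≪≫
    KFlatLib.tensSwap (MiscFlat6.dual L) G ≪≫ (homModIso e G).symm⟩

/-- The top exterior power of the conormal sheaf of a regular immersion is invertible. -/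
theorem isInvertible_det {P : Scheme.{u}} {ι : X ⟶ P} [IsClosedImmersion ι] {c : ℕ} {L : X.Modules}
    (hL : ExtPow.IsExtPow c (Omega.conormal ι) L)
    (hcov : ∀ z : X, ∃ (U : P.affineOpens) (g : Fin c → Γ(P, U.1)), ι z ∈ U.1 ∧ IsChart ι U g) :
    PicF.IsInvertible L := by
  obtain ⟨φ, hφ⟩ := hL
  choose U g hz h using hcov
  refine TwistLib.isInvertible_of_genOn (fun z => (preA (U z) ι).1) (fun z => ⟨z, hz z⟩)
    (fun z => (h z).lam φ) fun z => TwistLib.genOn_of_genAt fun w hw => (h z).genAt_lam φ hφ hw

/-- Internal homomorphisms exist. -/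
theorem hasSheafHom (M : X.Modules) : ModSite.HasSheafHom (O := X.sheaf) M :=
  ((HomCohLib.homAdj M).ofNatIsoLeft (ExtShLib.flipIso M).symm).isLeftAdjoint

end FLI
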