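import Groth.Agent.FLILib.Kos

/-!
# Zigzags between the two edges of the Koszul double complex
-/

set_option autoImplicit false
universe u v w

open Fin

noncomputable section

namespace FLI

variable {A : Type u} [CommRing A] {c : ℕ}

section Top

variable {N : Type v} [AddCommGroup N] [Module A N]

theorem alt_eq_zero_of_lt {p : ℕ} (hp : c < p) (v : Alt A c N p) : v = 0 := by
  refine Module.Basis.ext_alternating (Pi.basisFun A (Fin c)) fun i hi => ?_
  have := Fintype.card_le_of_injective i hi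
  simp only [Fintype.card_fin] at this
  omega

variable (A c) in
/-- The top form with a given value. -/
def detAlt (a : N) : Alt A c N c :=
  (LinearMap.toSpanSingleton A N a).compAlternatingMap (Pi.basisFun A (Fin c)).det

theorem detAlt_apply (a : N) (x : Fin c → Fin c → A) : detAlt A c a x = (Pi.basisFun A (Fin c)).det x • a := rfl

theorem detAlt_basis (a : N) : detAlt A c a (Pi.basisFun A (Fin c)) = a := by
  rw [detAlt_apply, Module.Basis.det_self, one_smul]

theorem eq_detAlt (x : Alt A c N c) : x = detAlt A c (x (Pi.basisFun A (Fin c))) := by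
  classical
  refine Module.Basis.ext_alternating (Pi.basisFun A (Fin c)) fun i hi => ?_
  let σ : Equiv.Perm (Fin c) := Equiv.ofBijective i ⟨hi, Finite.injective_iff_surjective.1 hi⟩
  rw [detAlt_apply, show (fun j => Pi.basisFun A (Fin c) (i j)) = ⇑(Pi.basisFun A (Fin c)) ∘ σ from rfl,
    AlternatingMap.map_perm, AlternatingMap.map_perm, Module.Basis.det_self, Units.smul_def, Units.smul_def,
    smul_assoc, one_smul]


end Top

variable {J : ℕ → Type v} [∀ q, AddCommGroup (J q)] [∀ q, Module A (J q)]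

/-- The vertical differential. -/
abbrev dJ (d : ∀ q, J q →ₗ[A] J (q + 1)) {p q : ℕ} (x : Alt A c (J q) p) : Alt A c (J (q + 1)) p :=
  (d q).compAlternatingMap x

/-- The zigzag from `(p, q)` to `(0, n)`. -/
inductive Zig (g : Fin c → A) (d : ∀ q, J q →ₗ[A] J (q + 1)) (n : ℕ) : ∀ (p q : ℕ), Alt A c (J q) p → J n → Prop
  | base (w : J n) : Zig g d n 0 n (kst A c w) w
  | step {p q : ℕ} (v : Alt A c (J q) p) (w : J n) : Zig g d n p (q + 1) (dJ d v) w → Zig g d n (p + 1) q (dl g v) w

variable (g : Fin c → A) (d : ∀ q, J q →ₗ[A] J (q + 1))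

/-- Boundaries of cochains killed by the Koszul differential. -/
def Bd (p : ℕ) : ∀ q, Alt A c (J q) p → Prop
  | 0, x => x = 0
  | q + 1, x => ∃ y : Alt A c (J q) p, dl g y = 0 ∧ dJ d y = x

/-- Boundaries of elements killed by the family. -/
def Bdy : ∀ n, J n → Prop
  | 0, w => w = 0
  | n + 1, w => ∃ r : J n, (∀ j, g j • r = 0) ∧ d n r = w

variable {g d}

theorem bdy_iff (n : ℕ) (w : J n) : Bdy g d n w ↔ Bd g d 0 n (kst A c w) := by
  cases n with
  | zero =>
    refine ⟨fun h => ?_, fun h => DFunLike.congr_fun h ![]⟩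
    simp only [Bdy] at h
    subst h
    rfl
  | succ n =>
    constructor
    · rintro ⟨r, hr, rfl⟩
      exact ⟨kst A c r, (dl_kst_eq_zero g r).2 hr, rfl⟩
    · rintro ⟨y, hy, h⟩
      rw [eq_kst y, dl_kst_eq_zero] at hy
      exact ⟨y ![], hy, DFunLike.congr_fun h ![]⟩

theorem dJ_dJ (hd : ∀ q x, d (q + 1) (d q x) = 0) {p q : ℕ} (x : Alt A c (J q) p) : dJ d (dJ d x) = 0 :=
  AlternatingMap.ext fun _ => hd _ _

theorem dJ_dl {p q : ℕ} (x : Alt A c (J q) p) : dJ d (dl g x) = dl g (dJ d x) := dl_comp_map g (d q) x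

theorem dJ_sub {p q : ℕ} (x y : Alt A c (J q) p) : dJ d (x - y) = dJ d x - dJ d y :=
  AlternatingMap.ext fun _ => map_sub (d q) _ _

theorem zig_exists (hd : ∀ q x, d (q + 1) (d q x) = 0) (hrow : ∀ q, Reg (J q) g) (n : ℕ) :
    ∀ (p q : ℕ), q + p = n → ∀ x : Alt A c (J q) p, dJ d x = 0 → dl g x = 0 →
      ∃ w, d n w = 0 ∧ (∀ j, g j • w = 0) ∧ Zig g d n p q x w := by
  intro p
  induction p with
  | zero =>
    intro q hq x h1 h2
    rw [Nat.add_zero] at hq
    subst hq
    rw [eq_kst x] at h1 h2 ⊢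
    exact ⟨x ![], DFunLike.congr_fun h1 ![], (dl_kst_eq_zero g _).1 h2, Zig.base _⟩
  | succ p ih =>
    intro q hq x h1 h2
    obtain ⟨v, rfl⟩ := exists_dl_eq g (hrow q) x h2
    obtain ⟨w, hw, hk, hz⟩ := ih (q + 1) (by omega) (dJ d v) (dJ_dJ hd v) (by rw [← dJ_dl, h1])
    exact ⟨w, hw, hk, Zig.step v w hz⟩

theorem zig_bdy (hd : ∀ q x, d (q + 1) (d q x) = 0) (hrow : ∀ q, Reg (J q) g) {n : ℕ} {p q : ℕ}
    {x : Alt A c (J q) p} {w : J n} (h : Zig g d n p q x w) : Bd g d p q x → Bdy g d n w := by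
  induction h with
  | base w => exact (bdy_iff n w).2
  | @step p q v w _ ih =>
    intro hb
    refine ih ?_
    cases q with
    | zero => exact ⟨v, hb, rfl⟩
    | succ q =>
      obtain ⟨y, hy, hyv⟩ := hb
      obtain ⟨y', rfl⟩ := exists_dl_eq g (hrow q) y hy
      refine ⟨v - dJ d y', ?_, ?_⟩
      · rw [dl_sub, ← dJ_dl, hyv, sub_self]
      · rw [dJ_sub, dJ_dJ hd, sub_zero]

theorem zig_sub {n : ℕ} {p q : ℕ} {x : Alt A c (J q) p} {w : J n} (h : Zig g d n p q x w) :
    ∀ {x' : Alt A c (J q) p} {w' : J n}, Zig g d n p q x' w' → Zig g d n p q (x - x') (w - w') := by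
  induction h with
  | base w =>
    intro x' w' h'
    cases h' with
    | base =>
      have : kst A c w - kst A c w' = kst A c (w - w') := rfl
      rw [this]
      exact Zig.base _
  | @step p q v w _ ih =>
    intro x' w' h'
    cases h' with
    | step v' _ h'' =>
      rw [← dl_sub]
      refine Zig.step _ _ ?_
      rw [dJ_sub]
      exact ih h''

theorem zig_smul (a : A) {n : ℕ} {p q : ℕ} {x : Alt A c (J q) p} {w : J n} (h : Zig g d n p q x w) :
    Zig g d n p q (a • x) (a • w) := by
  induction h with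
  | base w =>
    have : a • kst A c w = kst A c (a • w) := rfl
    rw [this]
    exact Zig.base _
  | @step p q v w _ ih =>
    rw [← dl_smul]
    refine Zig.step _ _ ?_
    rw [show dJ d (a • v) = a • dJ d v from AlternatingMap.ext fun _ => map_smul (d q) a _]
    exact ih

theorem exists_lift (hcol : ∀ q x, d (q + 1) x = 0 → ∃ y, d q y = x) {p q : ℕ} (x : Alt A c (J (q + 1)) p)
    (hx : dJ d x = 0) : ∃ y : Alt A c (J q) p, dJ d y = x := by
  let E := exteriorPower.alternatingMapLinearEquiv (R := A) (M := Fin c → A) (N := J q) (n := p)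
  let f := (d q).rangeRestrict
  let φ : ↥(⋀[A]^p (Fin c → A)) →ₗ[A] J (q + 1) := exteriorPower.alternatingMapLinearEquiv x
  have hmem : ∀ z, φ z ∈ LinearMap.range (d q) := fun z => by
    refine (hcol q (φ z) ?_).elim fun y hy => ⟨y, hy⟩
    have := exteriorPower.alternatingMapLinearEquiv_comp (d (q + 1)) x
    rw [show (d (q + 1)).compAlternatingMap x = 0 from hx, map_zero] at this
    exact (LinearMap.congr_fun this z).symm
  obtain ⟨h, hh⟩ := Module.projective_lifting_property f (φ.codRestrict _ hmem) (d q).surjective_rangeRestrict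
  refine ⟨E.symm h, ?_⟩
  refine (exteriorPower.alternatingMapLinearEquiv (R := A) (M := Fin c → A) (N := J (q + 1)) (n := p)).injective ?_
  rw [exteriorPower.alternatingMapLinearEquiv_comp]
  rw [show exteriorPower.alternatingMapLinearEquiv (E.symm h) = h from E.apply_symm_apply h]
  exact LinearMap.ext fun z => congrArg Subtype.val (LinearMap.congr_fun hh z)

theorem zig_surj (hcol : ∀ q x, d (q + 1) x = 0 → ∃ y, d q y = x) (n : ℕ) :
    ∀ (p q : ℕ), q + p = n → ∀ w : J n, d n w = 0 → (∀ j, g j • w = 0) →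
      ∃ x : Alt A c (J q) p, dJ d x = 0 ∧ dl g x = 0 ∧ Zig g d n p q x w := by
  intro p
  induction p with
  | zero =>
    intro q hq w h1 h2
    rw [Nat.add_zero] at hq
    subst hq
    exact ⟨kst A c w, AlternatingMap.ext fun _ => h1, (dl_kst_eq_zero g w).2 h2, Zig.base _⟩
  | succ p ih =>
    intro q hq w h1 h2
    obtain ⟨x', h3, h4, h5⟩ := ih (q + 1) (by omega) w h1 h2
    obtain ⟨v, rfl⟩ := exists_lift hcol x' h3
    exact ⟨dl g v, by rw [dJ_dl, h4], dl_dl g v, Zig.step v w h5⟩

theorem zig_inj (hcol : ∀ q x, d (q + 1) x = 0 → ∃ y, d q y = x)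
    {n : ℕ} {p q : ℕ} {x : Alt A c (J q) p} {w : J n} (h : Zig g d n p q x w) (hb : Bdy g d n w) :
    match p, x with
    | 0, x => Bd g d 0 q x
    | p + 1, x => ∃ v' : Alt A c (J q) p, dJ d v' = 0 ∧ dl g v' = x := by
  induction h with
  | base w => exact (bdy_iff n w).1 hb
  | @step p q v w _ ih =>
    cases p with
    | zero =>
      obtain ⟨y, hy, hyv⟩ := ih hb
      exact ⟨v - y, by rw [dJ_sub, hyv, sub_self], by rw [dl_sub, hy, sub_zero]⟩
    | succ p =>
      obtain ⟨z, hz, hzv⟩ := ih hb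
      obtain ⟨t, rfl⟩ := exists_lift hcol z hz
      refine ⟨v - dl g t, ?_, ?_⟩
      · rw [dJ_sub, dJ_dl, hzv, sub_self]
      · rw [dl_sub, dl_dl, sub_zero]

theorem zig_comap {g' : Fin c → A} (T : (Fin c → A) →ₗ[A] (Fin c → A)) (hT : ∀ x, lf g (T x) = lf g' x)
    {n : ℕ} {p q : ℕ} {x : Alt A c (J q) p} {w : J n} (h : Zig g d n p q x w) :
    Zig g' d n p q (x.compLinearMap T) w := by
  induction h with
  | base w =>
    have : (kst A c w).compLinearMap T = kst A c w := rfl
    rw [this]
    exact Zig.base _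
  | @step p q v w _ ih =>
    rw [dl_compLinearMap g g' T hT]
    exact Zig.step _ _ ih

section Map

variable {J' : ℕ → Type w} [∀ q, AddCommGroup (J' q)] [∀ q, Module A (J' q)] {d' : ∀ q, J' q →ₗ[A] J' (q + 1)}

theorem zig_map (f : ∀ q, J q →ₗ[A] J' q) (hf : ∀ q x, d' q (f q x) = f (q + 1) (d q x))
    {n : ℕ} {p q : ℕ} {x : Alt A c (J q) p} {w : J n} (h : Zig g d n p q x w) :
    Zig g d' n p q ((f q).compAlternatingMap x) (f n w) := by
  induction h with
  | base w =>
    have : (f n).compAlternatingMap (kst A c w) = kst A c (f n w) := rfl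
    rw [this]
    exact Zig.base _
  | @step p q v w _ ih =>
    rw [dl_comp_map]
    refine Zig.step _ _ ?_
    rw [show dJ d' ((f q).compAlternatingMap v) = (f (q + 1)).compAlternatingMap (dJ d v) from
      AlternatingMap.ext fun _ => hf q _]
    exact ih

end Map

section Res

variable {B : Type w} [CommRing B] [Algebra A B] [∀ q, Module B (J q)] [∀ q, IsScalarTower A B (J q)]

variable (A) in
/-- Restriction of scalars of forms. -/
def resAlt {N : Type v} [AddCommGroup N] [Module A N] [Module B N] [IsScalarTower A B N] {p : ℕ}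
    (x : Alt B c N p) : Alt A c N p :=
  { (x.toMultilinearMap.restrictScalars A).compLinearMap
      (fun _ => ((Algebra.linearMap A B).compLeft (Fin c))) with
    map_eq_zero_of_eq' := fun v i j h hij =>
      x.map_eq_zero_of_eq _ (congrArg ((Algebra.linearMap A B).compLeft (Fin c)) h) hij }

theorem resAlt_apply {N : Type v} [AddCommGroup N] [Module A N] [Module B N] [IsScalarTower A B N] {p : ℕ}
    (x : Alt B c N p) (v : Fin p → Fin c → A) : resAlt A x v = x fun i j => algebraMap A B (v i j) := rfl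

theorem resAlt_dl {N : Type v} [AddCommGroup N] [Module A N] [Module B N] [IsScalarTower A B N] {p : ℕ}
    (x : Alt B c N p) : resAlt A (dl (fun j => algebraMap A B (g j)) x) = dl g (resAlt A x) := by
  ext v
  rw [resAlt_apply, dl_apply, dl_apply]
  refine Finset.sum_congr rfl fun i _ => congrArg ((-1 : ℤ) ^ (i : ℕ) • ·) ?_
  have h : lf (fun j => algebraMap A B (g j)) (fun j => algebraMap A B (v i j)) = algebraMap A B (lf g (v i)) := by
    simp only [lf_apply, map_sum, map_mul]
  rw [h, algebraMap_smul]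
  rfl

theorem zig_res {dB : ∀ q, J q →ₗ[B] J (q + 1)} (hdB : ∀ q x, d q x = dB q x)
    {n : ℕ} {p q : ℕ} {x : Alt B c (J q) p} {w : J n} (h : Zig (fun j => algebraMap A B (g j)) dB n p q x w) :
    Zig g d n p q (resAlt A x) w := by
  induction h with
  | base w =>
    have : resAlt A (kst B c w) = kst A c w := rfl
    rw [this]
    exact Zig.base _
  | @step p q v w _ ih =>
    rw [resAlt_dl]
    refine Zig.step _ _ ?_
    rw [show dJ d (resAlt A v) = resAlt A (dJ dB v) from AlternatingMap.ext fun _ => hdB q _]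
    exact ih

theorem resAlt_detAlt {N : Type v} [AddCommGroup N] [Module A N] [Module B N] [IsScalarTower A B N] (a : N) :
    resAlt A (detAlt B c a) = detAlt A c a := by
  refine (eq_detAlt _).trans (congrArg (detAlt A c) ?_)
  rw [resAlt_apply]
  refine Eq.trans (congrArg (detAlt B c a) (funext fun i => funext fun j => ?_)) (detAlt_basis a)
  simp [Pi.single_apply, apply_ite (algebraMap A B)]

end Res

section Rel

variable (g d) {M : Type v} [AddCommGroup M] [Module A M] (ε : M →ₗ[A] J 0)

/-- The comparison relation between the module and the top Koszul cohomology. -/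
def Rel (m : M) (w : J c) : Prop := Zig g d c c 0 (detAlt A c (ε m)) w

variable {g d ε}

theorem exists_rel (hd : ∀ q x, d (q + 1) (d q x) = 0) (hε : ∀ m, d 0 (ε m) = 0) (hrow : ∀ q, Reg (J q) g)
    (m : M) : ∃ w, d c w = 0 ∧ (∀ j, g j • w = 0) ∧ Rel g d ε m w := by
  refine zig_exists hd hrow c c 0 (Nat.zero_add c) _ ?_ (alt_eq_zero_of_lt (Nat.lt_succ_self c) _)
  ext x
  rw [LinearMap.compAlternatingMap_apply, detAlt_apply, map_smul, hε, smul_zero, AlternatingMap.zero_apply]

theorem rel_unique (hd : ∀ q x, d (q + 1) (d q x) = 0) (hrow : ∀ q, Reg (J q) g) {m : M} {w w' : J c}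
    (h : Rel g d ε m w) (h' : Rel g d ε m w') : Bdy g d c (w - w') := by
  refine zig_bdy hd hrow (zig_sub h h') ?_
  exact sub_self _

theorem rel_sub {m m' : M} {w w' : J c} (h : Rel g d ε m w) (h' : Rel g d ε m' w') :
    Rel g d ε (m - m') (w - w') := by
  have := zig_sub h h'
  rwa [show detAlt A c (ε m) - detAlt A c (ε m') = detAlt A c (ε (m - m')) from
    AlternatingMap.ext fun x => by rw [AlternatingMap.sub_apply, detAlt_apply, detAlt_apply, detAlt_apply, map_sub,
      smul_sub]] at this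

theorem rel_smul (a : A) {m : M} {w : J c} (h : Rel g d ε m w) : Rel g d ε (a • m) (a • w) := by
  have := zig_smul a h
  rwa [show a • detAlt A c (ε m) = detAlt A c (ε (a • m)) from
    AlternatingMap.ext fun x => by rw [AlternatingMap.smul_apply, detAlt_apply, detAlt_apply, map_smul,
      smul_comm]] at this

theorem rel_surj (hcol : ∀ q x, d (q + 1) x = 0 → ∃ y, d q y = x)
    (hcol0 : ∀ x, d 0 x = 0 → ∃ m, ε m = x) {w : J c} (h1 : d c w = 0) (h2 : ∀ j, g j • w = 0) :
    ∃ m, Rel g d ε m w := by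
  obtain ⟨x, hx, -, hz⟩ := zig_surj hcol c c 0 (Nat.zero_add c) w h1 h2
  obtain ⟨m, hm⟩ := hcol0 (x (Pi.basisFun A (Fin c))) (DFunLike.congr_fun hx _)
  refine ⟨m, ?_⟩
  rw [Rel, hm, ← eq_detAlt]
  exact hz

theorem rel_inj (hcol : ∀ q x, d (q + 1) x = 0 → ∃ y, d q y = x)
    (hcol0 : ∀ x, d 0 x = 0 → ∃ m, ε m = x) (hε : Function.Injective ε) {m : M} {w : J c} (h : Rel g d ε m w)
    (hb : Bdy g d c w) : m ∈ Ideal.span (Set.range g) • (⊤ : Submodule A M) := by
  suffices H : ∀ (p : ℕ) (x : Alt A c (J 0) p), Zig g d c p 0 x w → p = c →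
      ∀ e : Fin p → Fin c → A, x e = ε m → m ∈ Ideal.span (Set.range g) • (⊤ : Submodule A M) from
    H c _ h rfl (Pi.basisFun A (Fin c)) (detAlt_basis _)
  intro p x hz hp e he
  have h1 := zig_inj hcol hz hb
  cases p with
  | zero =>
    have h0 : m = 0 := hε (by rw [map_zero, ← he, show x = 0 from h1]; rfl)
    rw [h0]
    exact zero_mem _
  | succ p =>
    obtain ⟨v, hv, rfl⟩ := h1
    choose μ hμ using fun z => hcol0 (v z) (DFunLike.congr_fun hv z)
    rw [dl_apply] at he
    have h2 : m = ∑ i : Fin (p + 1), (-1 : ℤ) ^ (i : ℕ) • (lf g (e i) • μ (removeNth i e)) := by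
      refine hε ?_
      rw [← he, map_sum]
      exact Finset.sum_congr rfl fun i _ => by rw [map_zsmul, map_smul, hμ]
    rw [h2]
    refine Submodule.sum_mem _ fun i _ => ?_
    refine zsmul_mem ?_ _
    refine Submodule.smul_mem_smul ?_ trivial
    rw [lf_apply]
    exact sum_mem fun j _ => Ideal.mul_mem_left _ _ (Ideal.subset_span ⟨j, rfl⟩)

theorem det_compLinearMap (T : (Fin c → A) →ₗ[A] (Fin c → A)) (m : M) :
    (detAlt A c (ε m)).compLinearMap T = detAlt A c (ε (LinearMap.det T • m)) := by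
  refine (eq_detAlt _).trans (congrArg (detAlt A c) ?_)
  rw [AlternatingMap.compLinearMap_apply, detAlt_apply, map_smul]
  congr 1
  have := (Pi.basisFun A (Fin c)).det_comp T (Pi.basisFun A (Fin c))
  rw [Module.Basis.det_self, mul_one] at this
  exact this

theorem rel_comap {g' : Fin c → A} (T : (Fin c → A) →ₗ[A] (Fin c → A)) (hT : ∀ x, lf g (T x) = lf g' x)
    {m : M} {w : J c} (h : Rel g d ε m w) : Rel g' d ε (LinearMap.det T • m) w := by
  rw [Rel, ← det_compLinearMap]
  exact zig_comap T hT h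

end Rel

end FLI

end
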