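import Groth.Prelude
import Groth.Agent.FLILib.Zig
import Groth.Agent.InjModLib.Stalk
import Groth.Agent.CohCmpLib.HomMod

/-!
# Regular charts of a closed immersion and injective modules
-/

set_option autoImplicit false
set_option linter.style.haveILetI false
set_option linter.unusedSectionVars false
set_option backward.isDefEq.respectTransparency false
set_option backward.isDefEq.respectTransparency.types false
universe u

open CategoryTheory CategoryTheory.Limits AlgebraicGeometry TopologicalSpace Opposite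
open ProjFormLib (ger res ger_res ger_smul exists_ger section_ext)
open CohCmpLib (stk ger_zero)

noncomputable section

namespace FLI

section Ring

variable {A B : Type u} [CommRing A] [CommRing B] {c : ℕ}

/-- Each element of the family is a nonzerodivisor modulo the previous ones. -/
def WReg (g : Fin c → A) : Prop :=
  ∀ i (a : A), g i * a ∈ Ideal.span (g '' {j | j < i}) → a ∈ Ideal.span (g '' {j | j < i})

theorem WReg.localization {g : Fin c → A} (h : WReg g) (S : Submonoid A) [Algebra A B] [IsLocalization S B] :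
    WReg fun j => algebraMap A B (g j) := by
  intro i b hb
  obtain ⟨⟨a, s⟩, hab⟩ := IsLocalization.surj S b
  have e : (fun j => algebraMap A B (g j)) '' {j | j < i} = algebraMap A B '' (g '' {j | j < i}) :=
    (Set.image_image _ _ _).symm
  rw [e, ← Ideal.map_span] at hb ⊢
  have h1 : algebraMap A B (g i * a) ∈ Ideal.map (algebraMap A B) (Ideal.span (g '' {j | j < i})) := by
    rw [map_mul, ← hab, ← mul_assoc]
    exact Ideal.mul_mem_right _ _ hb
  obtain ⟨⟨⟨z, hz⟩, t⟩, ht⟩ := (IsLocalization.mem_map_algebraMap_iff S B).1 h1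
  obtain ⟨v, hv⟩ := (IsLocalization.eq_iff_exists S B).1 ((map_mul (algebraMap A B) _ _).trans ht)
  have h2 : g i * ((v : A) * t * a) ∈ Ideal.span (g '' {j | j < i}) := by
    have : g i * ((v : A) * t * a) = (v : A) * z := by
      rw [← hv]; ring
    rw [this]
    exact Ideal.mul_mem_left _ _ hz
  have h3 := Ideal.mem_map_of_mem (algebraMap A B) (h i _ h2)
  rw [map_mul, ← hab] at h3
  have hu : IsUnit (algebraMap A B ((v : A) * t) * algebraMap A B s) := by
    rw [← map_mul]
    exact IsLocalization.map_units B (v * t * s)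
  rwa [mul_comm b, ← mul_assoc, Ideal.unit_mul_mem_iff_mem _ hu] at h3

/-- Injective modules are divisible along regular families. -/
theorem reg_of_injective {g : Fin c → A} (h : WReg g) (N : Type u) [AddCommGroup N] [Module A N]
    [Module.Injective A N] : Reg N g := by
  intro i x hx
  let K : Ideal A := Ideal.span (g '' {j | j < i})
  have hK : K ≤ LinearMap.ker (LinearMap.toSpanSingleton A N x) := by
    rw [Ideal.span_le]
    rintro _ ⟨j, hj, rfl⟩
    exact hx j hj
  let f : (A ⧸ K) →ₗ[A] N := Submodule.liftQ K (LinearMap.toSpanSingleton A N x) hK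
  let μ : (A ⧸ K) →ₗ[A] (A ⧸ K) := g i • LinearMap.id
  have hμ : Function.Injective μ := by
    refine (injective_iff_map_eq_zero μ).2 fun a ha => ?_
    obtain ⟨a, rfl⟩ := Submodule.Quotient.mk_surjective K a
    rw [LinearMap.smul_apply, LinearMap.id_apply, ← Submodule.Quotient.mk_smul, Submodule.Quotient.mk_eq_zero] at ha
    exact (Submodule.Quotient.mk_eq_zero K).2 (h i a ha)
  obtain ⟨φ, hφ⟩ := Module.Injective.out μ hμ f
  refine ⟨φ (Submodule.Quotient.mk 1), fun j hj => ?_, ?_⟩
  · rw [← map_smul, ← Submodule.Quotient.mk_smul]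
    have : (Submodule.Quotient.mk (g j • (1 : A)) : A ⧸ K) = 0 := (Submodule.Quotient.mk_eq_zero K).2
      (by rw [smul_eq_mul, mul_one]; exact Ideal.subset_span ⟨j, hj, rfl⟩)
    rw [this, map_zero]
  · rw [← map_smul]
    refine (hφ (Submodule.Quotient.mk 1)).trans ?_
    exact one_smul A x

theorem wReg_of_isWeaklyRegular (rs : List A) (h : RingTheory.Sequence.IsWeaklyRegular A rs)
    (hl : rs.length = c) : WReg fun i : Fin c => rs.get (i.cast hl.symm) := by
  subst hl
  intro i a ha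
  simp only [Fin.cast_refl, id_eq] at ha ⊢
  have e : Ideal.span (rs.get '' {j | j < i}) = Ideal.ofList (rs.take i) := by
    rw [Ideal.ofList]
    congr 1
    ext x
    simp only [Set.mem_image, Set.mem_ofPred_eq, List.mem_take_iff_getElem, List.get_eq_getElem]
    constructor
    · rintro ⟨j, hj, rfl⟩
      exact ⟨j, lt_min hj j.2, rfl⟩
    · rintro ⟨j, hj, rfl⟩
      exact ⟨⟨j, (lt_min_iff.1 hj).2⟩, (lt_min_iff.1 hj).1, rfl⟩
  rw [e] at ha ⊢
  have hreg := (RingTheory.Sequence.isWeaklyRegular_iff A rs).1 h i i.2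
  have hI : Ideal.ofList (rs.take i) • (⊤ : Submodule A A) = Ideal.ofList (rs.take i) := by
    rw [smul_eq_mul]; exact Ideal.mul_top _
  have hz := (isSMulRegular_iff_right_eq_zero_of_smul (M := A ⧸ (Ideal.ofList (rs.take i) • (⊤ : Submodule A A)))).1
    hreg (Submodule.Quotient.mk a) (by
      rw [← Submodule.Quotient.mk_smul, Submodule.Quotient.mk_eq_zero, hI]
      exact ha)
  rwa [Submodule.Quotient.mk_eq_zero, hI] at hz

end Ring

variable {P X : Scheme.{u}} (ι : X ⟶ P) {c : ℕ}

/-- An affine open with a regular family generating the ideal. -/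
structure IsChart (U : P.affineOpens) (g : Fin c → Γ(P, U.1)) : Prop where
  ideal_eq : ι.ker.ideal U = Ideal.span (Set.range g)
  wreg : WReg g

/-- Restriction of a family. -/
abbrev resFam {U V : P.Opens} (h : V ≤ U) (g : Fin c → Γ(P, U)) : Fin c → Γ(P, V) :=
  fun j => P.presheaf.map (homOfLE h).op (g j)

/-- Germs of a family. -/
abbrev gF {U : P.Opens} {y : P} (hy : y ∈ U) (g : Fin c → Γ(P, U)) : Fin c → P.presheaf.stalk y :=
  fun j => P.presheaf.germ U y hy (g j)

variable {ι}

theorem gF_resFam {U V : P.Opens} (h : V ≤ U) {y : P} (hy : y ∈ V) (g : Fin c → Γ(P, U)) :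
    gF hy (resFam h g) = gF (h hy) g :=
  funext fun j => TopCat.Presheaf.germ_res_apply P.presheaf (homOfLE h) y hy (g j)

theorem IsChart.basicOpen {U : P.affineOpens} {g : Fin c → Γ(P, U.1)} (h : IsChart ι U g) (f : Γ(P, U.1)) :
    IsChart ι ⟨P.basicOpen f, U.2.basicOpen f⟩ (resFam (P.basicOpen_le f) g) := by
  letI : Algebra Γ(P, U.1) Γ(P, P.basicOpen f) :=
    (P.presheaf.map (homOfLE (P.basicOpen_le f)).op).hom.toAlgebra
  haveI : IsLocalization.Away f Γ(P, P.basicOpen f) := U.2.isLocalization_basicOpen f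
  refine ⟨?_, WReg.localization h.wreg (Submonoid.powers f) (B := Γ(P, P.basicOpen f))⟩
  refine (ι.ker.map_ideal_basicOpen U f).symm.trans ?_
  rw [h.ideal_eq, Ideal.map_span, ← Set.range_comp]
  rfl

theorem exists_chart {d : ℕ} (hι : RegImm.IsRegularImmersionOfCodim RegImm.Kind.regular d ι) [QuasiCompact ι] (z : X) :
    ∃ (U : P.affineOpens) (g : Fin d → Γ(P, U.1)), ι z ∈ U.1 ∧ IsChart ι U g := by
  obtain ⟨U, hz, -, rs, hl, hrs, hker⟩ := hι.2 z
  refine ⟨U, fun i => rs.get (i.cast hl.symm), hz, ?_, wReg_of_isWeaklyRegular rs hrs.toIsWeaklyRegular hl⟩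
  rw [Scheme.Hom.ker_apply, hker, Ideal.ofList]
  congr 1
  ext x
  simp only [Set.mem_range, List.mem_iff_getElem, List.get_eq_getElem, Set.mem_ofPred_eq, Fin.val_cast]
  constructor
  · rintro ⟨j, hj, rfl⟩
    exact ⟨⟨j, hl ▸ hj⟩, rfl⟩
  · rintro ⟨i, rfl⟩
    exact ⟨i, hl.symm ▸ i.2, rfl⟩

theorem IsChart.exists_le {U : P.affineOpens} {g : Fin c → Γ(P, U.1)} (h : IsChart ι U g) {y : P} (hy : y ∈ U.1)
    {O : P.Opens} (hyO : y ∈ O) :
    ∃ (V : P.affineOpens) (hVU : V.1 ≤ U.1), y ∈ V.1 ∧ V.1 ≤ O ∧ IsChart ι V (resFam hVU g) := by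
  obtain ⟨f, hfO, hyf⟩ := QCohLib.exists_basicOpen_nhd U.2 hyO hy
  exact ⟨⟨P.basicOpen f, U.2.basicOpen f⟩, P.basicOpen_le f, hyf, hfO, h.basicOpen f⟩

theorem IsChart.wreg_germ {U : P.affineOpens} {g : Fin c → Γ(P, U.1)} (h : IsChart ι U g) {y : P} (hy : y ∈ U.1) :
    WReg (gF hy g) := by
  letI := P.presheaf.algebra_section_stalk (⟨y, hy⟩ : U.1)
  haveI := U.2.isLocalization_stalk ⟨y, hy⟩
  exact WReg.localization h.wreg (U.2.primeIdealOf ⟨y, hy⟩).asIdeal.primeCompl (B := P.presheaf.stalk y)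

section Injective

variable (I : P.Modules) [Injective I]

theorem IsChart.reg_sections {U : P.affineOpens} {g : Fin c → Γ(P, U.1)} (h : IsChart ι U g) : Reg Γ(I, U.1) g :=
  haveI := InjModLib.sections_injective I U.2
  reg_of_injective h.wreg _

theorem IsChart.reg_stalk {U : P.affineOpens} {g : Fin c → Γ(P, U.1)} (h : IsChart ι U g) {y : P} (hy : y ∈ U.1) :
    Reg (stk I y) (gF hy g) := by
  intro i x hx
  obtain ⟨W, hyW, s, rfl⟩ := exists_ger I y x
  have hz : ∀ j, ∃ O : P.Opens, y ∈ O ∧ ∃ (hOW : O ≤ W) (hOU : O ≤ U.1),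
      j < i → P.presheaf.map (homOfLE hOU).op (g j) • res I hOW s = 0 := by
    intro j
    have hy' : y ∈ W ⊓ U.1 := ⟨hyW, hy⟩
    by_cases hj : j < i
    · have h0 : ger I y hy' (P.presheaf.map (homOfLE (inf_le_right : W ⊓ U.1 ≤ U.1)).op (g j) •
          res I (inf_le_left : W ⊓ U.1 ≤ W) s) = ger I y hy' 0 := by
        rw [ger_smul, ger_res, ger_zero, TopCat.Presheaf.germ_res_apply]
        exact hx j hj
      obtain ⟨O, hyO, i₁, i₂, e⟩ := I.presheaf.germ_eq y hy' hy' _ _ h0
      refine ⟨O, hyO, i₁.le.trans inf_le_left, i₁.le.trans inf_le_right, fun _ => ?_⟩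
      rw [map_zero] at e
      refine Eq.trans ?_ e
      refine Eq.trans ?_ (Scheme.Modules.map_smul I (homOfLE i₁.le) _ _).symm
      refine congrArg₂ (· • ·) ?_ ?_
      · exact (ConcreteCategory.congr_hom (P.presheaf.map_comp (homOfLE (inf_le_right : W ⊓ U.1 ≤ U.1)).op
          (homOfLE i₁.le).op) (g j))
      · exact (ConcreteCategory.congr_hom (I.presheaf.map_comp (homOfLE (inf_le_left : W ⊓ U.1 ≤ W)).op
          (homOfLE i₁.le).op) s)
    · exact ⟨W ⊓ U.1, hy', inf_le_left, inf_le_right, fun h => absurd h hj⟩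
  choose O hyO hOW hOU hOz using hz
  obtain ⟨D, hDW, hyD⟩ : ∃ D : P.Opens, D ≤ W ∧ y ∈ D ∧ (∀ j, D ≤ O j) := by
    refine ⟨⟨(W : Set P) ∩ ⋂ j, (O j : Set P), W.2.inter (isOpen_iInter_of_finite fun j => (O j).2)⟩,
      fun a ha => ha.1, ⟨hyW, Set.mem_iInter.2 hyO⟩, fun j a ha => Set.mem_iInter.1 ha.2 j⟩
  obtain ⟨hyD, hDO⟩ := hyD
  obtain ⟨V, hVU, hyV, hVD, hV⟩ := h.exists_le hy hyD
  have hs : ∀ j, j < i → resFam hVU g j • res I (hVD.trans hDW) s = 0 := by
    intro j hj
    have e := congrArg (res I (hVD.trans (hDO j))) (hOz j hj)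
    rw [show res I (hVD.trans (hDO j)) (0 : Γ(I, O j)) = 0 from map_zero _] at e
    refine Eq.trans ?_ e
    refine Eq.trans ?_ (Scheme.Modules.map_smul I (homOfLE (hVD.trans (hDO j))) _ _).symm
    refine congrArg₂ (· • ·) ?_ ?_
    · exact (ConcreteCategory.congr_hom (P.presheaf.map_comp (homOfLE (hOU j)).op
        (homOfLE (hVD.trans (hDO j))).op) (g j))
    · exact (ConcreteCategory.congr_hom (I.presheaf.map_comp (homOfLE (hOW j)).op
        (homOfLE (hVD.trans (hDO j))).op) s)
  obtain ⟨t, ht, ht'⟩ := hV.reg_sections I i (res I (hVD.trans hDW) s) hs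
  refine ⟨ger I y hyV t, fun j hj => ?_, ?_⟩
  · have e := congrArg (ger I y hyV) (ht j hj)
    rw [ger_smul, ger_zero] at e
    rwa [show P.presheaf.germ V.1 y hyV (resFam hVU g j) = gF hy g j from
      congrFun (gF_resFam hVU hyV g) j] at e
  · have e := congrArg (ger I y hyV) ht'
    rw [ger_smul, ger_res] at e
    rwa [show P.presheaf.germ V.1 y hyV (resFam hVU g i) = gF hy g i from
      congrFun (gF_resFam hVU hyV g) i] at e

end Injective

end FLI

end
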