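import Groth.Agent.FLILib.Zig

/-!
# Koszul exactness in low degrees along a regular family
-/

set_option autoImplicit false
universe u v

open Fin

noncomputable section

namespace FLI

variable {A : Type u} [CommRing A] {N : Type v} [AddCommGroup N] [Module A N]

variable (N) in
/-- Each element of the family is a nonzerodivisor on the quotient by the previous ones. -/
def CoReg {c : ℕ} (g : Fin c → A) : Prop :=
  ∀ i (m : N), g i • m ∈ Ideal.span (g '' {j | j < i}) • (⊤ : Submodule A N) →
    m ∈ Ideal.span (g '' {j | j < i}) • (⊤ : Submodule A N)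

/-- The homotopy formula. -/
theorem curryLeft_dl {c : ℕ} (g : Fin c → A) {p : ℕ} (v : Alt A c N (p + 1)) (e : Fin c → A) :
    (dl g v).curryLeft e = lf g e • v - dl g (v.curryLeft e) := by
  ext z
  rw [AlternatingMap.curryLeft_apply_apply, dl_apply, Fin.sum_univ_succ, AlternatingMap.sub_apply,
    AlternatingMap.smul_apply, dl_apply, Matrix.cons_val_zero, Fin.val_zero, pow_zero, one_smul]
  have h0 : removeNth 0 (Matrix.vecCons e z) = z := by
    funext k
    simp [removeNth_apply]
  rw [h0, sub_eq_add_neg, ← Finset.sum_neg_distrib]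
  congr 1
  refine Finset.sum_congr rfl fun i _ => ?_
  rw [removeNth_succ_vecCons, Matrix.cons_val_succ, Fin.val_succ, pow_succ, mul_neg, mul_one, neg_smul,
    AlternatingMap.curryLeft_apply_apply]

/-- A top form is a boundary as soon as its value is in the ideal times the module. -/
theorem exists_dl_eq_detAlt {c : ℕ} (g : Fin (c + 1) → A) {m : N}
    (hm : m ∈ Ideal.span (Set.range g) • (⊤ : Submodule A N)) :
    ∃ v : Alt A (c + 1) N c, dl g v = detAlt A (c + 1) m := by
  have hzero : ∀ v : Alt A (c + 1) N (c + 1), dl g v = 0 := fun v => alt_eq_zero_of_lt (Nat.lt_succ_self _) _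
  have hdet : ∀ a b : N, detAlt A (c + 1) (a + b) = detAlt A (c + 1) a + detAlt A (c + 1) b := fun a b => by
    ext x
    simp [detAlt_apply, smul_add]
  refine Submodule.smul_induction_on hm (fun r hr n _ => ?_) ?_
  · refine Submodule.span_induction (p := fun r _ => ∃ v, dl g v = detAlt A (c + 1) (r • n)) ?_ ?_ ?_ ?_ hr
    · rintro _ ⟨j, rfl⟩
      refine ⟨(detAlt A (c + 1) n).curryLeft (Pi.single j 1), ?_⟩
      have h := curryLeft_dl g (detAlt A (c + 1) n) (Pi.single j 1)
      rw [hzero, lf_single] at h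
      have h' : (0 : Alt A (c + 1) N (c + 1)) = g j • detAlt A (c + 1) n -
          dl g ((detAlt A (c + 1) n).curryLeft (Pi.single j 1)) := h
      rw [eq_comm, sub_eq_zero] at h'
      rw [← h']
      ext x
      rw [AlternatingMap.smul_apply, detAlt_apply, detAlt_apply]
      exact smul_comm _ _ _
    · refine ⟨0, ?_⟩
      ext x
      simp [dl_zero, detAlt_apply]
    · rintro a b _ _ ⟨v, hv⟩ ⟨w, hw⟩
      exact ⟨v + w, by rw [dl_add, hv, hw, ← hdet, add_smul]⟩
    · rintro a b _ ⟨v, hv⟩
      refine ⟨a • v, ?_⟩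
      rw [dl_smul, hv]
      ext x
      rw [AlternatingMap.smul_apply, detAlt_apply, detAlt_apply, smul_assoc, smul_comm]
  · rintro a b ⟨v, hv⟩ ⟨w, hw⟩
    exact ⟨v + w, by rw [dl_add, hv, hw, ← hdet]⟩

theorem dl_apply_mem_smul {c : ℕ} (g : Fin c → A) {p : ℕ} (v : Alt A c N p) (x : Fin (p + 1) → Fin c → A) :
    dl g v x ∈ Ideal.span (Set.range g) • (⊤ : Submodule A N) := by
  rw [dl_apply]
  refine Submodule.sum_mem _ fun i _ => zsmul_mem (Submodule.smul_mem_smul ?_ Submodule.mem_top) _
  rw [lf_apply]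
  exact sum_mem fun j _ => Ideal.mul_mem_left _ _ (Ideal.subset_span ⟨j, rfl⟩)

theorem eq_zero_of_coReg {c : ℕ} {g : Fin (c + 1) → A} (hg : CoReg N g) {m : N} (hm : g 0 • m = 0) : m = 0 := by
  have := hg 0 m (by rw [hm]; exact zero_mem _)
  have e : g '' {j | j < (0 : Fin (c + 1))} = ∅ := by simp
  rwa [e, Ideal.span_empty, Submodule.bot_smul, Submodule.mem_bot] at this

/-- Koszul exactness below the length. -/
theorem exists_dl_eq_of_coReg : ∀ {c : ℕ} (g : Fin c → A), CoReg N g → ∀ {p : ℕ}, p + 1 < c →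
    ∀ u : Alt A c N (p + 1), dl g u = 0 → ∃ v, dl g v = u := by
  intro c
  induction c with
  | zero => exact fun _ _ p hp => absurd hp (by omega)
  | succ c ih =>
    intro g hg p hp u hu
    let g' : Fin c → A := fun j => g j.castSucc
    have himg : ∀ i : Fin c, g '' {j | j < i.castSucc} = g' '' {j | j < i} := fun i => by
      ext x
      constructor
      · rintro ⟨j, hj, rfl⟩
        obtain ⟨j, rfl⟩ := Fin.exists_castSucc_eq.2 (ne_of_lt (lt_trans hj (Fin.castSucc_lt_last i)))
        exact ⟨j, Fin.castSucc_lt_castSucc_iff.1 hj, rfl⟩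
      · rintro ⟨j, hj, rfl⟩
        exact ⟨j.castSucc, Fin.castSucc_lt_castSucc_iff.2 hj, rfl⟩
    have hlast : g '' {j | j < Fin.last c} = Set.range g' := by
      ext x
      constructor
      · rintro ⟨j, hj, rfl⟩
        obtain ⟨j, rfl⟩ := Fin.exists_castSucc_eq.2 (ne_of_lt hj)
        exact ⟨j, rfl⟩
      · rintro ⟨j, rfl⟩
        exact ⟨j.castSucc, Fin.castSucc_lt_last j, rfl⟩
    have hg' : CoReg N g' := fun i m hm => by
      have := hg i.castSucc m (by rw [himg]; exact hm)
      rwa [himg] at this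
    have hres : ∀ {q : ℕ} (v : Alt A (c + 1) N q), (dl g v).compLinearMap incl = dl g' (v.compLinearMap incl) :=
      fun v => dl_compLinearMap g g' incl (lf_incl g) v
    have hu' : dl g' (u.compLinearMap incl) = 0 := by rw [← hres, hu]; rfl
    obtain ⟨t, ht⟩ : ∃ t, dl g' t = u.compLinearMap incl := by
      rcases Nat.lt_or_ge (p + 1) c with h | h
      · exact ih g' hg' h _ hu'
      · obtain rfl : c = p + 1 := by omega
        have h2 := DFunLike.congr_fun (curryLeft_dl g u (eL A (p + 1))) fun k => incl (Pi.basisFun A (Fin (p + 1)) k)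
        rw [hu, AlternatingMap.sub_apply, AlternatingMap.smul_apply, lf_single] at h2
        have hmem : (u.compLinearMap incl) ⇑(Pi.basisFun A (Fin (p + 1))) ∈
            Ideal.span (Set.range g') • (⊤ : Submodule A N) := by
          rw [← hlast]
          refine hg (Fin.last (p + 1)) _ ?_
          rw [hlast]
          have h3 : dl g (u.curryLeft (eL A (p + 1))) (fun k => incl (Pi.basisFun A (Fin (p + 1)) k)) =
              dl g' ((u.curryLeft (eL A (p + 1))).compLinearMap incl) ⇑(Pi.basisFun A (Fin (p + 1))) :=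
            DFunLike.congr_fun (hres (u.curryLeft (eL A (p + 1)))) ⇑(Pi.basisFun A (Fin (p + 1)))
          have h4 : g (Fin.last (p + 1)) • (u.compLinearMap incl) ⇑(Pi.basisFun A (Fin (p + 1))) =
              dl g' ((u.curryLeft (eL A (p + 1))).compLinearMap incl) ⇑(Pi.basisFun A (Fin (p + 1))) := by
            rw [← h3]
            exact sub_eq_zero.1 h2.symm
          rw [h4]
          exact dl_apply_mem_smul g' _ _
        obtain ⟨t, ht⟩ := exists_dl_eq_detAlt g' hmem
        exact ⟨t, ht.trans (eq_detAlt _).symm⟩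
    let π : (Fin (c + 1) → A) →ₗ[A] (Fin c → A) := LinearMap.funLeft A A Fin.castSucc
    have hπ : (t.compLinearMap π).compLinearMap incl = t := by
      ext x
      exact congrArg t (funext fun k => funext fun j => incl_castSucc _ _)
    let u₁ := u - dl g (t.compLinearMap π)
    have h1 : u₁.compLinearMap incl = 0 := by
      have h := hres (t.compLinearMap π)
      rw [hπ, ht] at h
      ext x
      exact sub_eq_zero.2 (DFunLike.congr_fun h x).symm
    have h2 : dl g u₁ = 0 := by rw [dl_sub, hu, dl_dl, sub_zero]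
    suffices hfin : ∃ v, dl g v = u₁ by
      obtain ⟨v, hv⟩ := hfin
      exact ⟨v + t.compLinearMap π, by rw [dl_add, hv, sub_add_cancel]⟩
    have hr : dl g' (lastPart u₁) = 0 := by
      have h := lastPart_dl g u₁ h1
      rw [h2] at h
      exact neg_eq_zero.1 h.symm
    cases p with
    | zero =>
      obtain ⟨d, rfl⟩ : ∃ d, c = d + 1 := ⟨c - 1, by omega⟩
      have hr' := eq_kst (lastPart u₁)
      rw [hr', dl_kst_eq_zero] at hr
      refine ⟨0, (eq_zero_of_parts u₁ h1 ?_).symm ▸ dl_zero g⟩
      rw [hr', eq_zero_of_coReg hg' (hr 0)]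
      rfl
    | succ p =>
      obtain ⟨s, hs⟩ := ih g' hg' (by omega) (lastPart u₁) hr
      refine ⟨-extLast s, (sub_eq_zero.1 (eq_zero_of_parts (u₁ - dl g (-extLast s)) ?_ ?_)).symm⟩
      · have h3 : (dl g (-extLast s)).compLinearMap incl = 0 := by
          rw [hres]
          have : (-extLast s).compLinearMap incl = 0 := by
            ext x
            exact neg_eq_zero.2 (DFunLike.congr_fun (extLast_incl s) x)
          rw [this, dl_zero]
        ext x
        exact sub_eq_zero.2 ((DFunLike.congr_fun h1 x).trans (DFunLike.congr_fun h3 x).symm)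
      · rw [lastPart_sub, dl_neg]
        have h3 := lastPart_dl g (extLast s) (extLast_incl s)
        rw [lastPart_extLast, hs] at h3
        ext z
        have h4 := DFunLike.congr_fun h3 z
        rw [AlternatingMap.neg_apply] at h4
        rw [AlternatingMap.sub_apply, lastPart_apply (-dl g (extLast s)), AlternatingMap.neg_apply, ← lastPart_apply, h4,
          neg_neg, sub_self, AlternatingMap.zero_apply]

variable {c : ℕ} {J : ℕ → Type v} [∀ q, AddCommGroup (J q)] [∀ q, Module A (J q)]
  {g : Fin c → A} {d : ∀ q, J q →ₗ[A] J (q + 1)}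

theorem zig_zero (n : ℕ) : ∀ p q, q + p = n → Zig g d n p q 0 0 := by
  intro p
  induction p with
  | zero =>
    intro q hq
    rw [Nat.add_zero] at hq
    subst hq
    exact Zig.base 0
  | succ p ih =>
    intro q hq
    have h := ih (q + 1) (by omega)
    have h' : Zig g d n (p + 1) q (dl g (0 : Alt A c (J q) p)) 0 := Zig.step 0 0 (by
      rwa [show dJ d (0 : Alt A c (J q) p) = 0 from AlternatingMap.ext fun _ => map_zero (d q)])
    rwa [dl_zero] at h'

/-- Cocycles killed by the family are boundaries below the length. -/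
theorem bdy_of_coReg {ε : N →ₗ[A] J 0} (hd : ∀ q x, d (q + 1) (d q x) = 0) (hε : ∀ m, d 0 (ε m) = 0)
    (hε' : Function.Injective ε) (hrow : ∀ q, Reg (J q) g) (hcol : ∀ q x, d (q + 1) x = 0 → ∃ y, d q y = x)
    (hcol0 : ∀ x, d 0 x = 0 → ∃ m, ε m = x) (hN : CoReg N g) {n : ℕ} (hn : n < c) {w : J n} (h1 : d n w = 0)
    (h2 : ∀ j, g j • w = 0) : Bdy g d n w := by
  obtain ⟨x, hx, hx', hz⟩ := zig_surj hcol n n 0 (Nat.zero_add n) w h1 h2
  obtain ⟨ω, rfl⟩ : ∃ ω : Alt A c N n, ε.compAlternatingMap ω = x := by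
    let e := LinearEquiv.ofInjective ε hε'
    refine ⟨e.symm.toLinearMap.compAlternatingMap (x.codRestrict (LinearMap.range ε) fun v =>
      (hcol0 _ (DFunLike.congr_fun hx v)).elim fun m hm => ⟨m, hm⟩), ?_⟩
    ext v
    exact congrArg Subtype.val (e.apply_symm_apply _)
  have hω : dl g ω = 0 := by
    rw [← dl_comp_map] at hx'
    exact AlternatingMap.ext fun v => hε' ((DFunLike.congr_fun hx' v).trans (map_zero ε).symm)
  cases n with
  | zero =>
    obtain ⟨k, rfl⟩ : ∃ k, c = k + 1 := ⟨c - 1, by omega⟩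
    rw [eq_kst ω, dl_kst_eq_zero] at hω
    refine zig_bdy hd hrow hz ?_
    show ε.compAlternatingMap ω = 0
    rw [eq_kst ω, eq_zero_of_coReg hN (hω 0)]
    exact AlternatingMap.ext fun _ => map_zero ε
  | succ k =>
    obtain ⟨v, rfl⟩ := exists_dl_eq_of_coReg g hN hn ω hω
    have h3 : Zig g d (k + 1) (k + 1) 0 (ε.compAlternatingMap (dl g v)) 0 := by
      rw [dl_comp_map]
      refine Zig.step _ _ ?_
      rw [show dJ d (ε.compAlternatingMap v) = 0 from AlternatingMap.ext fun y => hε (v y)]
      exact zig_zero (k + 1) k 1 (by omega)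
    have h4 := zig_bdy hd hrow (zig_sub hz h3) (sub_self _)
    rwa [sub_zero] at h4

end FLI

end
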