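import Groth.Agent.FLILib.Chart
import Groth.Agent.ExtShLib.DivExt
import Groth.Agent.ExtShLib.Shriek

/-!
# Evaluation at one of homomorphisms out of the structure sheaf of a closed subscheme
-/

set_option autoImplicit false
set_option linter.style.haveILetI false
set_option linter.unusedSectionVars false
set_option backward.isDefEq.respectTransparency false
set_option backward.isDefEq.respectTransparency.types false
universe u

open CategoryTheory CategoryTheory.Limits AlgebraicGeometry TopologicalSpace Opposite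
open ProjFormLib (ger res ger_res ger_smul ger_map exists_ger section_ext)
open CohCmpLib (stk ger_zero homMod hVal happ homMod_ext exists_section_of_germs homSec)
open PnDualLib (preMap homFun)
open ExtShLib (pO unitHom')

noncomputable section

namespace FLI

local notation "𝒪" => Coh.structureModule _

variable {P : Scheme.{u}}

theorem exists_res_eq {M : P.Modules} {y : P} {U V : P.Opens} (hU : y ∈ U) (hV : y ∈ V) (s : Γ(M, U))
    (t : Γ(M, V)) (h : ger M y hU s = ger M y hV t) :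
    ∃ (W : P.Opens) (hWU : W ≤ U) (hWV : W ≤ V), y ∈ W ∧ res M hWU s = res M hWV t := by
  obtain ⟨W, hW, i₁, i₂, e⟩ := M.presheaf.germ_eq y hU hV s t h
  exact ⟨W, i₁.le, i₂.le, hW, e⟩

theorem exists_lift_section {A B : P.Modules} (φ : A ⟶ B)
    (hinj : ∀ y, Function.Injective ((DerSch.stalkFunctor P y).map φ).hom) {U : P.Opens} (s : Γ(B, U))
    (h : ∀ y (hy : y ∈ U), ∃ a : stk A y, ((DerSch.stalkFunctor P y).map φ).hom a = ger B y hy s) :
    ∃ t : Γ(A, U), φ.app U t = s := by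
  choose a ha using h
  obtain ⟨t, ht⟩ := exists_section_of_germs A (fun y : U => a y.1 y.2) fun y => by
    obtain ⟨W, hyW, t, ht⟩ := exists_ger A y.1 (a y.1 y.2)
    have e : ger B y.1 hyW (φ.app W t) = ger B y.1 y.2 s := by rw [← ger_map, ht, ha]
    obtain ⟨W', hW, hU, hy', e'⟩ := exists_res_eq hyW y.2 _ _ e
    refine ⟨W', hU, hy', res A hW t, fun z hz => hinj z ?_⟩
    rw [ha, ger_map, ← ger_res B hU z hz s, ← e']
    exact congrArg (ger B z hz) (QCohLib.app_map φ (homOfLE hW) t)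
  refine ⟨t, section_ext _ _ fun y hy => ?_⟩
  rw [← ger_map, ht, ha]

variable {X : Scheme.{u}} (ι : X ⟶ P) [IsClosedImmersion ι]

/-- The quotient map. -/
abbrev qO : Coh.structureModule P ⟶ pO ι := ClSub.unitToPush ι

/-- The germ of one. -/
def oneS (y : P) : stk (Coh.structureModule P) y :=
  ger (Coh.structureModule P) y (U := ⊤) trivial (show Γ(Coh.structureModule P, ⊤) from (1 : Γ(P, ⊤)))

theorem ger_smul_one {U : P.Opens} (y : P) (hy : y ∈ U) (r : Γ(P, U)) :
    ger (Coh.structureModule P) y hy (show Γ(Coh.structureModule P, U) from r) =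
      P.presheaf.germ U y hy r • oneS y := by
  have h : (show Γ(Coh.structureModule P, U) from r) =
      r • res (Coh.structureModule P) (le_top : U ≤ ⊤) (show Γ(Coh.structureModule P, ⊤) from (1 : Γ(P, ⊤))) := by
    show r = r * P.presheaf.map (homOfLE (le_top : U ≤ ⊤)).op (1 : Γ(P, ⊤))
    rw [map_one, mul_one]
  refine (congrArg (ger (Coh.structureModule P) y hy) h).trans ?_
  rw [ger_smul, ger_res]
  rfl

/-- The image of one. -/
def uS (y : P) : stk (pO ι) y := ((DerSch.stalkFunctor P y).map (qO ι)).hom (oneS y)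

theorem smul_uS {U : P.Opens} (y : P) (hy : y ∈ U) (r : Γ(P, U)) :
    P.presheaf.germ U y hy r • uS ι y = ger (pO ι) y hy (show Γ(pO ι, U) from ι.app U r) := by
  rw [uS, ← map_smul, ← ger_smul_one, ger_map]
  rfl

theorem exists_smul_uS {y : P} (a : stk (pO ι) y) : ∃ r : P.presheaf.stalk y, r • uS ι y = a := by
  obtain ⟨W, hyW, s, rfl⟩ := exists_ger (pO ι) y a
  obtain ⟨_, ⟨V, hV, rfl⟩, hyV, hVW⟩ := P.isBasis_affineOpens.exists_subset_of_mem_open hyW W.isOpen
  obtain ⟨r, hr⟩ := ι.app_surjective (U := V) hV (show Γ(X, ι ⁻¹ᵁ V) from res (pO ι) hVW s)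
  refine ⟨P.presheaf.germ V y hyV r, ?_⟩
  rw [smul_uS, ← ger_res (pO ι) hVW y hyV s]
  exact congrArg (ger (pO ι) y hyV) hr

variable {ι} {c : ℕ} {U : P.affineOpens} {g : Fin c → Γ(P, U.1)}

theorem IsChart.gF_smul_uS (h : IsChart ι U g) {y : P} (hy : y ∈ U.1) (j : Fin c) : gF hy g j • uS ι y = 0 := by
  have hj : g j ∈ ι.ker.ideal U := h.ideal_eq ▸ Ideal.subset_span ⟨j, rfl⟩
  rw [Scheme.Hom.ker_apply, RingHom.mem_ker] at hj
  rw [smul_uS]
  exact (congrArg (ger (pO ι) y hy) hj).trans (ger_zero (pO ι) y hy)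

theorem IsChart.mem_span_of_smul_uS (h : IsChart ι U g) {y : P} (hy : y ∈ U.1) (r : P.presheaf.stalk y)
    (hr : r • uS ι y = 0) : r ∈ Ideal.span (Set.range (gF hy g)) := by
  obtain ⟨W, hyW, r, rfl⟩ := P.presheaf.exists_germ_eq r
  rw [smul_uS, ← ger_zero (pO ι) y hyW] at hr
  obtain ⟨W', hW, hW', hy', e⟩ := exists_res_eq hyW hyW _ _ hr
  obtain ⟨V, hVU, hyV, hVW, hV⟩ := h.exists_le hy hy'
  have hmem : P.presheaf.map (homOfLE (hVW.trans hW)).op r ∈ ι.ker.ideal V := by
    rw [Scheme.Hom.ker_apply, RingHom.mem_ker]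
    have e' := congrArg (res (pO ι) hVW) e
    have hz : res (pO ι) hVW (res (pO ι) hW' (0 : Γ(pO ι, W))) = 0 :=
      (congrArg (res (pO ι) hVW) (map_zero _)).trans (map_zero _)
    rw [hz] at e'
    refine Eq.trans ?_ e'
    refine Eq.trans ?_ (ConcreteCategory.congr_hom ((pO ι).presheaf.map_comp (homOfLE hW).op (homOfLE hVW).op) _)
    exact ConcreteCategory.congr_hom (ι.naturality (homOfLE (hVW.trans hW)).op) r
  rw [hV.ideal_eq] at hmem
  have := Ideal.mem_map_of_mem (P.presheaf.germ V.1 y hyV).hom hmem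
  rw [Ideal.map_span, ← Set.range_comp] at this
  rw [← TopCat.Presheaf.germ_res_apply P.presheaf (homOfLE (hVW.trans hW)) y hyV r, ← gF_resFam hVU hyV g]
  exact this

variable (ι)

/-- Evaluation at one. -/
def jEv (W : P.Modules) : homMod (pO ι) W ⟶ W := preMap (qO ι) W ≫ inv (unitHom' W)

theorem ger_jEv {W : P.Modules} {V : P.Opens} (h : Γ(homMod (pO ι) W, V)) (y : P) (hy : y ∈ V) :
    ger W y hy ((jEv ι W).app V h) = hVal h y hy (uS ι y) := by
  have e : (unitHom' W).app V ((jEv ι W).app V h) = (preMap (qO ι) W).app V h := by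
    show (jEv ι W ≫ unitHom' W).app V h = _
    rw [jEv, Category.assoc, IsIso.inv_hom_id, Category.comp_id]
  have h1 := congrArg (fun t => hVal t y hy (oneS y)) e
  have h2 : hVal ((unitHom' W).app V ((jEv ι W).app V h)) y hy (oneS y) =
      ger W y hy ((jEv ι W).app V h) := by
    have h3 := CohCmpLib.ger_happ ((unitHom' W).app V ((jEv ι W).app V h))
      (show Γ(Coh.structureModule P, V) from (1 : Γ(P, V))) y hy
    rw [ExtShLib.ger_happ_unitHom', one_smul, ger_smul_one, map_one, one_smul] at h3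
    exact h3.symm
  rw [← h2, h1, PnDualLib.hVal_preMap]
  rfl

theorem jEv_injective (W : P.Modules) (y : P) :
    Function.Injective ((DerSch.stalkFunctor P y).map (jEv ι W)).hom := by
  refine (injective_iff_map_eq_zero _).2 fun a ha => ?_
  obtain ⟨V, hyV, h, rfl⟩ := exists_ger (homMod (pO ι) W) y a
  rw [ger_map, ← ger_zero W y hyV] at ha
  obtain ⟨V', hV, hV', hy', e⟩ := exists_res_eq hyV hyV _ _ ha
  rw [← ger_res _ hV y hy', ← ger_zero (homMod (pO ι) W) y hy']
  congr 1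
  refine homMod_ext fun z hz => LinearMap.ext fun m => ?_
  obtain ⟨r, rfl⟩ := exists_smul_uS ι m
  have h0 : hVal h z (hV hz) (uS ι z) = 0 := by
    rw [← ger_jEv, ← ger_res W hV z hz, e, ger_res, ger_zero]
  rw [map_smul, map_smul, CohCmpLib.hVal_res, h0, smul_zero]
  exact (smul_zero r).symm

variable {ι}

theorem IsChart.gF_smul_jEv (h : IsChart ι U g) {W : P.Modules} {y : P} (hy : y ∈ U.1) (j : Fin c)
    (a : stk (homMod (pO ι) W) y) : gF hy g j • ((DerSch.stalkFunctor P y).map (jEv ι W)).hom a = 0 := by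
  obtain ⟨V, hyV, k, rfl⟩ := exists_ger (homMod (pO ι) W) y a
  rw [ger_map, ger_jEv, ← map_smul, h.gF_smul_uS hy j, map_zero]

theorem IsChart.exists_jEv (h : IsChart ι U g) {W : P.Modules} {y : P} (hy : y ∈ U.1) (w : stk W y)
    (hw : ∀ j, gF hy g j • w = 0) : ∃ a, ((DerSch.stalkFunctor P y).map (jEv ι W)).hom a = w := by
  obtain ⟨W₀, hy₀, s, rfl⟩ := exists_ger W y w
  have hz : ∀ j, ∃ O : P.Opens, y ∈ O ∧ O ≤ W₀ ∧ ∀ z (hz : z ∈ O) (hzU : z ∈ U.1) (hzW : z ∈ W₀),
      gF hzU g j • ger W z hzW s = 0 := by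
    intro j
    have hy' : y ∈ W₀ ⊓ U.1 := ⟨hy₀, hy⟩
    have e : ger W y hy' (P.presheaf.map (homOfLE (inf_le_right : W₀ ⊓ U.1 ≤ U.1)).op (g j) •
        res W (inf_le_left : W₀ ⊓ U.1 ≤ W₀) s) = ger W y hy' 0 := by
      rw [ger_smul, ger_res, ger_zero, TopCat.Presheaf.germ_res_apply]
      exact hw j
    obtain ⟨O, h₁, h₂, hyO, e'⟩ := exists_res_eq hy' hy' _ _ e
    refine ⟨O, hyO, h₁.trans inf_le_left, fun z hz hzU hzW => ?_⟩
    have e'' := congrArg (ger W z hz) e'
    rw [ger_res, ger_res, ger_smul, ger_res, ger_zero, TopCat.Presheaf.germ_res_apply] at e''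
    exact e''
  choose O hyO hOW hOz using hz
  let D : P.Opens := ⟨(W₀ : Set P) ∩ (U.1 : Set P) ∩ ⋂ j, (O j : Set P),
    (W₀.2.inter U.1.2).inter (isOpen_iInter_of_finite fun j => (O j).2)⟩
  have hyD : y ∈ D := ⟨⟨hy₀, hy⟩, Set.mem_iInter.2 hyO⟩
  have hker : ∀ z : D, LinearMap.ker (LinearMap.toSpanSingleton (P.presheaf.stalk z.1) (stk (pO ι) z.1) (uS ι z.1)) ≤
      LinearMap.ker (LinearMap.toSpanSingleton (P.presheaf.stalk z.1) (stk W z.1) (ger W z.1 z.2.1.1 s)) := by
    intro z r hr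
    have hmem := h.mem_span_of_smul_uS z.2.1.2 r hr
    refine (Ideal.span_le.2 ?_) hmem
    rintro _ ⟨j, rfl⟩
    exact hOz j z.1 (Set.mem_iInter.1 z.2.2 j) z.2.1.2 z.2.1.1
  have hsur : ∀ z : D, Function.Surjective
      (LinearMap.toSpanSingleton (P.presheaf.stalk z.1) (stk (pO ι) z.1) (uS ι z.1)) :=
    fun z a => exists_smul_uS ι a
  let L : ∀ z : D, stk (pO ι) z.1 →ₗ[P.presheaf.stalk z.1] stk W z.1 := fun z =>
    (Submodule.liftQ _ _ (hker z)).comp
      (LinearMap.quotKerEquivOfSurjective _ (hsur z)).symm.toLinearMap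
  have hL : ∀ (z : D) (r : P.presheaf.stalk z.1), L z (r • uS ι z.1) = r • ger W z.1 z.2.1.1 s := by
    intro z r
    show Submodule.liftQ _ _ (hker z) ((LinearMap.quotKerEquivOfSurjective _ (hsur z)).symm
      (LinearMap.toSpanSingleton _ _ (uS ι z.1) r)) = _
    rw [LinearMap.quotKerEquivOfSurjective_symm_apply]
    rfl
  have hmemL : L ∈ homSec (pO ι) W D := by
    intro T hT m
    refine exists_section_of_germs W (fun z : T => L ⟨z.1, hT z.2⟩ (ger (pO ι) z.1 z.2 m)) fun z => ?_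
    obtain ⟨r, hr⟩ := exists_smul_uS ι (ger (pO ι) z.1 z.2 m)
    obtain ⟨T₀, hz₀, r, rfl⟩ := P.presheaf.exists_germ_eq r
    rw [smul_uS] at hr
    obtain ⟨T₁, h₁, h₂, hz₁, e⟩ := exists_res_eq hz₀ z.2 _ _ hr
    refine ⟨T₁, h₂, hz₁, P.presheaf.map (homOfLE h₁).op r •
      res W ((h₂.trans hT).trans (fun a ha => ha.1.1)) s, fun a ha => ?_⟩
    rw [ger_smul, ger_res, TopCat.Presheaf.germ_res_apply, ← ger_res (pO ι) h₂ a ha m, ← e, ger_res,
      ← smul_uS, hL]
  refine ⟨ger (homMod (pO ι) W) y hyD (show Γ(homMod (pO ι) W, D) from ⟨L, hmemL⟩), ?_⟩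
  rw [ger_map, ger_jEv]
  have := hL ⟨y, hyD⟩ 1
  rw [one_smul, one_smul] at this
  exact this

theorem jEv_natural {W W' : P.Modules} (φ : W ⟶ W') :
    (homFun (pO ι)).map φ ≫ jEv ι W' = jEv ι W ≫ φ := by
  refine Scheme.Modules.hom_ext _ _ fun V => ConcreteCategory.hom_ext _ _ fun h => section_ext _ _ fun y hy => ?_
  show ger W' y hy ((jEv ι W').app V (((homFun (pO ι)).map φ).app V h)) = ger W' y hy (φ.app V ((jEv ι W).app V h))
  rw [ger_jEv, ← ger_map φ y hy, ger_jEv, PnDualLib.homFun_map]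
  obtain ⟨T, hT, m, hm⟩ := exists_ger (pO ι) y (uS ι y)
  have hy' : y ∈ V ⊓ T := ⟨hy, hT⟩
  rw [← hm, ← ger_res _ (inf_le_right : V ⊓ T ≤ T) y hy' m]
  refine ((congrArg (fun f => f (ger (pO ι) y hy' (res (pO ι) inf_le_right m)))
    (CohCmpLib.hVal_res (inf_le_left : V ⊓ T ≤ V) ((HomCohLib.mapR (pO ι) φ).app V h) y hy').symm)).trans ?_
  refine Eq.trans ?_ (congrArg (fun f => ((DerSch.stalkFunctor P y).map φ).hom
    (f (ger (pO ι) y hy' (res (pO ι) inf_le_right m))))
    (CohCmpLib.hVal_res (inf_le_left : V ⊓ T ≤ V) h y hy'))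
  rw [← CohCmpLib.ger_happ, ← CohCmpLib.ger_happ, ger_map]
  refine congrArg (ger W' y _) ?_
  rw [← HomCohLib.happ_mapR]
  exact congrArg (fun t => happ t _) (QCohLib.app_map (HomCohLib.mapR _ φ) (homOfLE inf_le_left) h).symm

end FLI

end
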