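import Mathlib.LinearAlgebra.Alternating.Uncurry.Fin
import Mathlib.LinearAlgebra.ExteriorPower.Basis
import Mathlib.LinearAlgebra.Determinant

/-!
# Alternating Koszul cochains with values in a module
-/

set_option autoImplicit false
universe u v w

open Fin

noncomputable section

namespace FLI

variable {A : Type u} [CommRing A] {c : ℕ} {N : Type v} [AddCommGroup N] [Module A N]
  {N' : Type w} [AddCommGroup N'] [Module A N']

variable (A c N) in
/-- Alternating `p`-forms on `A^c` with values in `N`. -/
abbrev Alt (p : ℕ) := (Fin c → A) [⋀^Fin p]→ₗ[A] N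

/-- The linear form of a family. -/
def lf (g : Fin c → A) : (Fin c → A) →ₗ[A] A := Fintype.linearCombination A g

theorem lf_apply (g : Fin c → A) (x : Fin c → A) : lf g x = ∑ j, x j * g j :=
  Fintype.linearCombination_apply A g x

theorem lf_single (g : Fin c → A) (j : Fin c) : lf g (Pi.single j 1) = g j :=
  (Fintype.linearCombination_apply_single A g j 1).trans (one_mul _)

/-- The Koszul differential. -/
def dl (g : Fin c → A) {p : ℕ} (v : Alt A c N p) : Alt A c N (p + 1) :=
  AlternatingMap.alternatizeUncurryFin ((lf g).smulRight v)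

theorem dl_apply (g : Fin c → A) {p : ℕ} (v : Alt A c N p) (x : Fin (p + 1) → Fin c → A) :
    dl g v x = ∑ i : Fin (p + 1), (-1 : ℤ) ^ (i : ℕ) • (lf g (x i) • v (removeNth i x)) := by
  rw [dl, AlternatingMap.alternatizeUncurryFin_apply]
  rfl

theorem dl_add (g : Fin c → A) {p : ℕ} (v w : Alt A c N p) : dl g (v + w) = dl g v + dl g w := by
  ext x
  simp only [AlternatingMap.add_apply, dl_apply, smul_add, Finset.sum_add_distrib]

theorem dl_zero (g : Fin c → A) {p : ℕ} : dl g (0 : Alt A c N p) = 0 := by
  ext x
  simp [dl_apply]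

theorem dl_neg (g : Fin c → A) {p : ℕ} (v : Alt A c N p) : dl g (-v) = -dl g v := by
  refine eq_neg_of_add_eq_zero_left ?_
  rw [← dl_add, neg_add_cancel, dl_zero]

theorem dl_sub (g : Fin c → A) {p : ℕ} (v w : Alt A c N p) : dl g (v - w) = dl g v - dl g w := by
  rw [sub_eq_add_neg, dl_add, dl_neg, sub_eq_add_neg]

theorem dl_smul (g : Fin c → A) {p : ℕ} (a : A) (v : Alt A c N p) : dl g (a • v) = a • dl g v := by
  ext x
  simp only [AlternatingMap.smul_apply, dl_apply, Finset.smul_sum]
  exact Finset.sum_congr rfl fun i _ => by rw [smul_comm a, smul_comm (lf g (x i))]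

theorem dl_dl (g : Fin c → A) {p : ℕ} (v : Alt A c N p) : dl g (dl g v) = 0 := by
  let f : (Fin c → A) →ₗ[A] (Fin c → A) →ₗ[A] Alt A c N p := (lf g).smulRight ((lf g).smulRight v)
  have hf : ∀ x y, f x y = f y x := fun x y => smul_comm (lf g x) (lf g y) v
  have h := AlternatingMap.alternatizeUncurryFin_alternatizeUncurryFinLM_comp_of_symmetric hf
  refine Eq.trans ?_ h
  refine congrArg AlternatingMap.alternatizeUncurryFin (LinearMap.ext fun x => ?_)
  exact (AlternatingMap.alternatizeUncurryFin_smul (lf g x) ((lf g).smulRight v)).symm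

theorem dl_comp_map (g : Fin c → A) {p : ℕ} (f : N →ₗ[A] N') (v : Alt A c N p) :
    f.compAlternatingMap (dl g v) = dl g (f.compAlternatingMap v) := by
  ext x
  simp only [LinearMap.compAlternatingMap_apply, dl_apply, map_sum]
  exact Finset.sum_congr rfl fun i _ => by rw [map_zsmul, map_smul]

theorem dl_compLinearMap {c' : ℕ} (g : Fin c → A) (g' : Fin c' → A) (T : (Fin c' → A) →ₗ[A] (Fin c → A))
    (hT : ∀ x, lf g (T x) = lf g' x) {p : ℕ} (v : Alt A c N p) :
    (dl g v).compLinearMap T = dl g' (v.compLinearMap T) := by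
  ext x
  simp only [AlternatingMap.compLinearMap_apply, dl_apply]
  exact Finset.sum_congr rfl fun i _ => by rw [hT]; rfl

variable (A c) in
/-- A constant `0`-form. -/
def kst (w : N) : Alt A c N 0 := AlternatingMap.constOfIsEmpty A (Fin c → A) (Fin 0) w

theorem kst_apply (w : N) (x : Fin 0 → Fin c → A) : kst A c w x = w := rfl

theorem eq_kst (v : Alt A c N 0) : v = kst A c (v ![]) := by
  ext x
  rw [kst_apply, Subsingleton.elim x ![]]

theorem dl_kst_apply (g : Fin c → A) (w : N) (x : Fin 1 → Fin c → A) : dl g (kst A c w) x = lf g (x 0) • w := by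
  rw [dl_apply, Fin.sum_univ_one]
  exact (congrArg (· • (lf g (x 0) • w)) (pow_zero (-1 : ℤ))).trans (one_smul ℤ _)

theorem dl_kst_eq_zero (g : Fin c → A) (w : N) : dl g (kst A c w) = 0 ↔ ∀ j, g j • w = 0 := by
  constructor
  · intro h j
    have := DFunLike.congr_fun h ![Pi.single j 1]
    rw [dl_kst_apply] at this
    rw [← lf_single g j]
    exact this
  · intro h
    ext x
    rw [dl_kst_apply, lf_apply, Finset.sum_smul]
    refine (Finset.sum_eq_zero fun j _ => ?_).trans (AlternatingMap.zero_apply x).symm
    rw [mul_smul, h, smul_zero]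

variable (N) in
/-- Each element of the family is surjective on the elements killed by the previous ones. -/
def Reg (g : Fin c → A) : Prop :=
  ∀ i (x : N), (∀ j, j < i → g j • x = 0) → ∃ t : N, (∀ j, j < i → g j • t = 0) ∧ g i • t = x

/-- The inclusion of the first coordinates. -/
def incl : (Fin c → A) →ₗ[A] (Fin (c + 1) → A) :=
  LinearMap.pi (Fin.lastCases 0 fun j => LinearMap.proj j)

theorem incl_castSucc (x : Fin c → A) (j : Fin c) : incl x j.castSucc = x j := by
  simp [incl]

theorem incl_last (x : Fin c → A) : incl x (Fin.last c) = 0 := by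
  simp [incl]

theorem incl_single (j : Fin c) : incl (Pi.single j (1 : A)) = Pi.single j.castSucc 1 := by
  funext k
  induction k using Fin.lastCases with
  | last => rw [incl_last, Pi.single_eq_of_ne (ne_of_gt (Fin.castSucc_lt_last j))]
  | cast k =>
    rw [incl_castSucc, Pi.single_apply, Pi.single_apply]
    exact if_congr (Fin.castSucc_inj).symm rfl rfl

theorem lf_incl (g : Fin (c + 1) → A) (x : Fin c → A) :
    lf g (incl x) = lf (fun j => g j.castSucc) x := by
  rw [lf_apply, lf_apply, Fin.sum_univ_castSucc, incl_last, zero_mul, add_zero]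
  exact Finset.sum_congr rfl fun j _ => by rw [incl_castSucc]

/-- The last basis vector. -/
abbrev eL (A : Type u) [CommRing A] (c : ℕ) : Fin (c + 1) → A := Pi.single (Fin.last c) 1

/-- The coefficient of the last basis vector. -/
def lastPart {p : ℕ} (u : Alt A (c + 1) N (p + 1)) : Alt A c N p :=
  (u.curryLeft (eL A c)).compLinearMap incl

theorem lastPart_apply {p : ℕ} (u : Alt A (c + 1) N (p + 1)) (z : Fin p → Fin c → A) :
    lastPart u z = u (Matrix.vecCons (eL A c) fun i => incl (z i)) := rfl

theorem lastPart_sub {p : ℕ} (u u' : Alt A (c + 1) N (p + 1)) : lastPart (u - u') = lastPart u - lastPart u' := by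
  ext z
  rfl

theorem eq_zero_of_parts {p : ℕ} (u : Alt A (c + 1) N (p + 1)) (h1 : u.compLinearMap incl = 0)
    (h2 : lastPart u = 0) : u = 0 := by
  classical
  refine Module.Basis.ext_alternating (Pi.basisFun A (Fin (c + 1))) fun v hv => ?_
  simp only [Pi.basisFun_apply, AlternatingMap.zero_apply]
  by_cases hl : ∃ i, v i = Fin.last c
  · obtain ⟨i, hi⟩ := hl
    have hne : ∀ k, v (i.succAbove k) ≠ Fin.last c := fun k h =>
      Fin.succAbove_ne i k (hv (h.trans hi.symm))
    choose z hz using fun k => Fin.exists_castSucc_eq.2 (hne k)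
    have hx : (fun k => (Pi.single (v k) (1 : A) : Fin (c + 1) → A)) =
        i.insertNth (eL A c) (fun k => incl (Pi.single (z k) (1 : A))) := by
      funext k
      rcases Fin.eq_self_or_eq_succAbove i k with rfl | ⟨k, rfl⟩
      · rw [Fin.insertNth_apply_same, hi]
      · rw [Fin.insertNth_apply_succAbove, incl_single, hz]
    rw [hx, AlternatingMap.map_insertNth]
    have h3 := DFunLike.congr_fun h2 fun k => Pi.single (z k) 1
    rw [lastPart_apply, AlternatingMap.zero_apply] at h3
    rw [h3, smul_zero]
  · push Not at hl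
    choose z hz using fun k => Fin.exists_castSucc_eq.2 (hl k)
    have h3 := DFunLike.congr_fun h1 fun k => Pi.single (z k) 1
    rw [AlternatingMap.compLinearMap_apply, AlternatingMap.zero_apply] at h3
    refine Eq.trans ?_ h3
    refine congrArg u (funext fun k => ?_)
    rw [incl_single, hz]

theorem removeNth_succ_vecCons {α : Type*} {p : ℕ} (a : α) (z : Fin (p + 1) → α) (i : Fin (p + 1)) :
    removeNth i.succ (Matrix.vecCons a z) = Matrix.vecCons a (removeNth i z) := by
  funext k
  induction k using Fin.cases with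
  | zero => simp [removeNth_apply]
  | succ k => simp [removeNth_apply]

theorem lastPart_dl (g : Fin (c + 1) → A) {p : ℕ} (v : Alt A (c + 1) N (p + 1))
    (hv : v.compLinearMap incl = 0) :
    lastPart (dl g v) = -dl (fun j => g j.castSucc) (lastPart v) := by
  ext z
  rw [lastPart_apply, dl_apply, Fin.sum_univ_succ, AlternatingMap.neg_apply, dl_apply, ← Finset.sum_neg_distrib]
  have h0 : v (removeNth 0 (Matrix.vecCons (eL A c) fun i => incl (z i))) = 0 := by
    have := DFunLike.congr_fun hv z
    rw [AlternatingMap.compLinearMap_apply, AlternatingMap.zero_apply] at this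
    refine Eq.trans (congrArg v (funext fun k => ?_)) this
    simp [removeNth_apply]
  rw [h0, smul_zero, smul_zero, zero_add]
  refine Finset.sum_congr rfl fun i _ => ?_
  rw [removeNth_succ_vecCons, Matrix.cons_val_succ, lf_incl, Fin.val_succ, pow_succ, mul_neg, mul_one, neg_smul]
  exact congrArg (fun t => -((-1 : ℤ) ^ (i : ℕ) • (lf (fun j => g j.castSucc) (z i) • t)))
    (congrArg v (congrArg (Matrix.vecCons _) rfl))

theorem lastPart_dl_kst (g : Fin (c + 1) → A) (t : N) :
    lastPart (dl g (kst A (c + 1) t)) = kst A c (g (Fin.last c) • t) := by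
  ext z
  rw [lastPart_apply, dl_kst_apply, Matrix.cons_val_zero, lf_single, kst_apply]

/-- A form supported at the last basis vector. -/
def extLast {p : ℕ} (t : Alt A c N p) : Alt A (c + 1) N (p + 1) :=
  AlternatingMap.alternatizeUncurryFin
    ((LinearMap.proj (Fin.last c) : (Fin (c + 1) → A) →ₗ[A] A).smulRight
      (t.compLinearMap (LinearMap.funLeft A A Fin.castSucc)))

theorem extLast_apply {p : ℕ} (t : Alt A c N p) (x : Fin (p + 1) → Fin (c + 1) → A) :
    extLast t x = ∑ i : Fin (p + 1), (-1 : ℤ) ^ (i : ℕ) • ((x i) (Fin.last c) •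
      t (fun k => fun j => removeNth i x k j.castSucc)) := by
  rw [extLast, AlternatingMap.alternatizeUncurryFin_apply]
  rfl

theorem extLast_incl {p : ℕ} (t : Alt A c N p) : (extLast t).compLinearMap incl = 0 := by
  ext x
  rw [AlternatingMap.compLinearMap_apply, extLast_apply]
  refine (Finset.sum_eq_zero fun i _ => ?_).trans (AlternatingMap.zero_apply x).symm
  rw [incl_last, zero_smul, smul_zero]

theorem lastPart_extLast {p : ℕ} (t : Alt A c N p) : lastPart (extLast t) = t := by
  ext z
  rw [lastPart_apply, extLast_apply, Fin.sum_univ_succ]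
  have h0 : ∑ i : Fin p, (-1 : ℤ) ^ (i.succ : ℕ) • ((Matrix.vecCons (eL A c) (fun k => incl (z k)) i.succ) (Fin.last c) •
      t (fun k => fun j => removeNth i.succ (Matrix.vecCons (eL A c) fun k => incl (z k)) k j.castSucc)) = 0 :=
    Finset.sum_eq_zero fun i _ => by rw [Matrix.cons_val_succ, incl_last, zero_smul, smul_zero]
  rw [h0, add_zero, Matrix.cons_val_zero, show eL A c (Fin.last c) = 1 from Pi.single_eq_same _ _, one_smul, Fin.val_zero,
    pow_zero, one_smul]
  refine congrArg t (funext fun k => funext fun j => ?_)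
  simp [removeNth_apply, incl_castSucc]

/-- Koszul exactness. -/
theorem exists_dl_eq : ∀ {c : ℕ} (g : Fin c → A), Reg N g → ∀ {p : ℕ} (u : Alt A c N (p + 1)),
    dl g u = 0 → ∃ v, dl g v = u := by
  intro c
  induction c with
  | zero =>
    intro g _ p u _
    refine ⟨0, ?_⟩
    ext x
    rw [dl_zero, AlternatingMap.zero_apply]
    exact (u.map_coord_zero 0 (Subsingleton.elim _ _)).symm
  | succ c ih =>
    intro g hg p u hu
    let g' : Fin c → A := fun j => g j.castSucc
    have hg' : Reg N g' := fun i x hx => by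
      obtain ⟨t, ht, ht'⟩ := hg i.castSucc x fun j hj => by
        obtain ⟨j, rfl⟩ := Fin.exists_castSucc_eq.2 (ne_of_lt (hj.trans (Fin.castSucc_lt_last i)))
        exact hx j (Fin.castSucc_lt_castSucc_iff.1 hj)
      exact ⟨t, fun j hj => ht j.castSucc (Fin.castSucc_lt_castSucc_iff.2 hj), ht'⟩
    have hres : ∀ {q : ℕ} (v : Alt A (c + 1) N q), (dl g v).compLinearMap incl = dl g' (v.compLinearMap incl) :=
      fun v => dl_compLinearMap g g' incl (lf_incl g) v
    obtain ⟨t, ht⟩ := ih g' hg' (u.compLinearMap incl) (by rw [← hres, hu]; rfl)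
    let π : (Fin (c + 1) → A) →ₗ[A] (Fin c → A) := LinearMap.funLeft A A Fin.castSucc
    have hπ : (t.compLinearMap π).compLinearMap incl = t := by
      ext x
      exact congrArg t (funext fun k => funext fun j => incl_castSucc _ _)
    let u₁ := u - dl g (t.compLinearMap π)
    have h1 : u₁.compLinearMap incl = 0 := by
      have h := hres (t.compLinearMap π)
      rw [hπ, ht] at h
      ext x
      exact sub_eq_zero.2 (DFunLike.congr_fun h x).symm
    have h2 : dl g u₁ = 0 := by rw [dl_sub, hu, dl_dl, sub_zero]
    suffices hfin : ∃ v, dl g v = u₁ by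
      obtain ⟨v, hv⟩ := hfin
      exact ⟨v + t.compLinearMap π, by rw [dl_add, hv, sub_add_cancel]⟩
    have hr : dl g' (lastPart u₁) = 0 := by
      have h := lastPart_dl g u₁ h1
      rw [h2] at h
      exact neg_eq_zero.1 h.symm
    cases p with
    | zero =>
      have hr' := eq_kst (lastPart u₁)
      rw [hr', dl_kst_eq_zero] at hr
      obtain ⟨s, hs, hs'⟩ := hg (Fin.last c) (lastPart u₁ ![]) fun j hj => by
        obtain ⟨j, rfl⟩ := Fin.exists_castSucc_eq.2 (ne_of_lt hj)
        exact hr j
      refine ⟨kst A (c + 1) s, (sub_eq_zero.1 (eq_zero_of_parts (u₁ - dl g (kst A (c + 1) s)) ?_ ?_)).symm⟩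
      · have h3 : dl g' ((kst A (c + 1) s).compLinearMap incl) = 0 :=
          (dl_kst_eq_zero g' s).2 fun j => hs j.castSucc (Fin.castSucc_lt_last j)
        rw [← hres] at h3
        ext x
        exact sub_eq_zero.2 ((DFunLike.congr_fun h1 x).trans (DFunLike.congr_fun h3 x).symm)
      · rw [lastPart_sub, lastPart_dl_kst, hs', ← hr', sub_self]
    | succ p =>
      obtain ⟨s, hs⟩ := ih g' hg' (lastPart u₁) hr
      refine ⟨-extLast s, (sub_eq_zero.1 (eq_zero_of_parts (u₁ - dl g (-extLast s)) ?_ ?_)).symm⟩
      · have h3 : (dl g (-extLast s)).compLinearMap incl = 0 := by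
          rw [hres]
          have : (-extLast s).compLinearMap incl = 0 := by
            ext x
            exact neg_eq_zero.2 (DFunLike.congr_fun (extLast_incl s) x)
          rw [this, dl_zero]
        ext x
        exact sub_eq_zero.2 ((DFunLike.congr_fun h1 x).trans (DFunLike.congr_fun h3 x).symm)
      · rw [lastPart_sub, dl_neg]
        have h3 := lastPart_dl g (extLast s) (extLast_incl s)
        rw [lastPart_extLast, hs] at h3
        ext z
        have h4 := DFunLike.congr_fun h3 z
        rw [AlternatingMap.neg_apply] at h4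
        rw [AlternatingMap.sub_apply, lastPart_apply (-dl g (extLast s)), AlternatingMap.neg_apply, ← lastPart_apply, h4,
          neg_neg, sub_self, AlternatingMap.zero_apply]

end FLI

end
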