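import Groth.Agent.RegImmKindLib.Near
import Groth.Agent.RegImmKindLib.Codim
import Groth.Agent.FibDimLib.Pure
import Groth.Agent.FibDimLib.Comps
import Groth.Agent.CommAlgDim.CM
import Groth.Agent.RTrivLib.Curve
import Groth.Agent.GenusZeroLib.PSpace
import Groth.Agent.GenusZeroLib.PSmooth
import Groth.Agent.PnDualLib.Duality

/-!
# Local complete intersections in projective space are regular immersions
-/

set_option autoImplicit false
set_option linter.style.haveILetI false
set_option backward.isDefEq.respectTransparency false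
set_option backward.isDefEq.respectTransparency.types false

noncomputable section

universe u

open CategoryTheory CategoryTheory.Limits AlgebraicGeometry TopologicalSpace RingTheory.Sequence

namespace FLI

/-- A closed immersion cut out stalkwise by regular sequences of length `d` is regular of codimension `d`. -/
theorem regularOfCodim_of_stalks {Z X : Scheme.{u}} (i : Z ⟶ X) [IsClosedImmersion i] [IsLocallyNoetherian X] (d : ℕ)
    (h : ∀ z : Z, ∃ rs : List (X.presheaf.stalk (i z)), rs.length = d ∧ IsRegular (X.presheaf.stalk (i z)) rs ∧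
      RingHom.ker (i.stalkMap z).hom = Ideal.ofList rs) :
    RegImm.IsRegularImmersionOfCodim RegImm.Kind.regular d i := by
  refine ⟨inferInstance, fun z => ?_⟩
  obtain ⟨rs, hl, hrs, hker⟩ := h z
  obtain ⟨U, hU, hzU, -⟩ := exists_isAffineOpen_mem_and_subset (x := i z) (U := ⊤) trivial
  have hV : IsAffineOpen (i ⁻¹ᵁ U) := hU.preimage i
  have hs : Function.Surjective (i.app U) := i.app_surjective U hU
  haveI : IsNoetherianRing Γ(X, U) := IsLocallyNoetherian.component_noetherian ⟨U, hU⟩
  letI := X.presheaf.algebra_section_stalk (⟨i z, hzU⟩ : U)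
  let p := (hU.primeIdealOf ⟨i z, hzU⟩).asIdeal
  haveI : IsLocalization.AtPrime (X.presheaf.stalk (i z)) p := hU.isLocalization_stalk ⟨i z, hzU⟩
  obtain ⟨hk1, hk2⟩ := RegImmKindLib.ker_stalkMap i hU hV hs z hzU
  obtain ⟨g, hg, hg'⟩ := RegImmKindLib.exists_away_seq' RegImm.Kind.regular p (RingHom.ker (i.app U).hom) hk2
    (X.presheaf.stalk (i z)) rs hrs (hker.symm.trans hk1)
  obtain ⟨h1, h2, h3⟩ := KRLib.basicOpen_data i hU hV hs g
  letI : Algebra Γ(X, U) Γ(X, X.basicOpen g) :=
    (X.presheaf.map (homOfLE (X.basicOpen_le g)).op).hom.toAlgebra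
  haveI : IsLocalization.Away g Γ(X, X.basicOpen g) := hU.isLocalization_basicOpen g
  obtain ⟨rs', hl', hrs', hI⟩ := hg' Γ(X, X.basicOpen g)
  refine ⟨⟨X.basicOpen g, hU.basicOpen g⟩, ?_,
    (KRLib.isClosedImmersion_restrict_iff i (hU.basicOpen g)).2 ⟨h1, h2⟩, rs', hl'.trans hl, hrs', h3.trans hI.symm⟩
  show i z ∈ X.basicOpen g
  rw [show i z = hU.fromSpec (hU.primeIdealOf ⟨i z, hzU⟩) from (hU.fromSpec_primeIdealOf ⟨i z, hzU⟩).symm]
  show hU.primeIdealOf ⟨i z, hzU⟩ ∈ hU.fromSpec ⁻¹ᵁ X.basicOpen g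
  rw [hU.fromSpec_preimage_basicOpen g]
  exact hg

/-- Arithmetic of the dimension formula. -/
theorem add_dim_eq {N r : ℕ} (hr : r ≤ N) {d a b : WithBot ℕ∞} (h1 : ((N - r : ℕ) : WithBot ℕ∞) = d + a)
    (h2 : (N : WithBot ℕ∞) = d + b) : a + (r : WithBot ℕ∞) = b := by
  cases d with
  | bot => simp at h2
  | coe d =>
    cases a with
    | bot => simp at h1
    | coe a =>
      cases b with
      | bot => simp at h2
      | coe b =>
        rw [← WithBot.coe_natCast, ← WithBot.coe_add, WithBot.coe_inj] at h1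
        rw [← WithBot.coe_natCast, ← WithBot.coe_add, WithBot.coe_inj] at h2
        obtain ⟨d, rfl⟩ : ∃ m : ℕ, d = m := ENat.ne_top_iff_exists.1 (fun h => by simp [h] at h1) |>.imp fun m => Eq.symm
        obtain ⟨a, rfl⟩ : ∃ m : ℕ, a = m := ENat.ne_top_iff_exists.1 (fun h => by simp [h] at h1) |>.imp fun m => Eq.symm
        obtain ⟨b, rfl⟩ : ∃ m : ℕ, b = m := ENat.ne_top_iff_exists.1 (fun h => by simp [h] at h2) |>.imp fun m => Eq.symm
        have h3 : a + r = b := by
          norm_cast at h1 h2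
          omega
        subst h3
        push_cast
        rfl

/-- **A closed subscheme of projective space of pure codimension `r` locally cut out by `r` sections is a regular
immersion of codimension `r`.** -/
theorem regularOfCodim_lci (k : Type u) [Field k] (N r : ℕ) (hr : r ≤ N) {X : Scheme.{u}}
    (ι : X ⟶ CohB1.ProjSpace N k) [IsClosedImmersion ι]
    (heq : ∀ Z : Set ↥X, Z ∈ irreducibleComponents ↥X → topologicalKrullDim ↥Z = ((N - r : ℕ) : WithBot ℕ∞))
    (hgen : ∀ x : X, ∃ U : (CohB1.ProjSpace N k).affineOpens, ι.base x ∈ (U : (CohB1.ProjSpace N k).Opens) ∧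
      ∃ f : Fin r → Γ(CohB1.ProjSpace N k, (U : (CohB1.ProjSpace N k).Opens)), ι.ker.ideal U = Ideal.span (Set.range f)) :
    RegImm.IsRegularImmersionOfCodim RegImm.Kind.regular r ι := by
  let P := CohB1.ProjSpace N k
  haveI := GenusZeroLib.isIntegral_projSpace k N
  haveI := PnCohLib.isLocallyNoetherian_projSpace (n := N) k
  haveI : SmoothOfRelativeDimension N (CohB1.ProjSpace.toSpec N k) := PnDualLib.smoothRel_projSpace k N
  haveI : Smooth (CohB1.ProjSpace.toSpec N k) := SmoothOfRelativeDimension.smooth N _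
  refine regularOfCodim_of_stalks ι r fun z => ?_
  obtain ⟨U, hzU, f, hf⟩ := hgen z
  let g : Fin r → P.presheaf.stalk (ι z) := fun j => P.presheaf.germ U.1 (ι z) hzU (f j)
  have hker : RingHom.ker (ι.stalkMap z).hom = Ideal.ofList (List.ofFn g) := by
    letI := P.presheaf.algebra_section_stalk (⟨ι z, hzU⟩ : U.1)
    rw [(RegImmKindLib.ker_stalkMap ι U.2 (U.2.preimage ι) (ι.app_surjective U.1 U.2) z hzU).1,
      ← Scheme.Hom.ker_apply, hf, Ideal.map_span, ← Set.range_comp, CILib.ofList_ofFn]
    rfl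
  have hm : ∀ x ∈ List.ofFn g, x ∈ IsLocalRing.maximalIdeal (P.presheaf.stalk (ι z)) := fun x hx => by
    refine IsLocalRing.le_maximalIdeal (RingHom.ker_ne_top (ι.stalkMap z).hom) ?_
    rw [hker]
    exact Ideal.subset_span hx
  haveI := RTrivLib.regular_stalk (CohB1.ProjSpace.toSpec N k) (ι z)
  refine ⟨List.ofFn g, List.length_ofFn, CommAlgDim.isRegular_of_dim
    (CommAlgDim.isCM_of_isRegularLocalRing _) hm ?_, hker⟩
  rw [List.length_ofFn, ← hker,
    ringKrullDim_eq_of_ringEquiv (RingHom.quotientKerEquivOfSurjective (ι.stalkMap_surjective z))]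
  let q := CohB1.ProjSpace.toSpec N k
  have h1 := FibDimLib.localDim_eq_closure_add_stalk (ι ≫ q) z
  rw [FibDimLib.IsPureDim.localDim_eq (ι ≫ q) heq z] at h1
  have h2 := FibDimLib.localDim_eq_closure_add_stalk q (ι z)
  rw [FibDimLib.localDim_of_irreducible q (ι z), GenusZeroLib.dim_projSpace] at h2
  have hcl : topologicalKrullDim (closure ({ι z} : Set P)) = topologicalKrullDim (closure ({z} : Set X)) := by
    have e : (ι.base) '' closure ({z} : Set X) = closure ({ι z} : Set P) := by
      rw [← ι.isClosedEmbedding.closure_image_eq, Set.image_singleton]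
    exact IsHomeomorph.topologicalKrullDim_eq _ ((ι.isClosedEmbedding.isEmbedding.homeomorphImage
      (closure ({z} : Set X))).trans (Homeomorph.setCongr e)).isHomeomorph |>.symm
  rw [hcl] at h2
  exact (add_dim_eq hr h1 h2).le

end FLI
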