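import Groth.Agent.FLILib.Global
import Groth.Agent.CohCmpLib.FrameTools

/-!
# Local freeness of the top Ext sheaf
-/

set_option autoImplicit false
set_option linter.style.haveILetI false
set_option linter.unusedSectionVars false
set_option backward.isDefEq.respectTransparency false
set_option backward.isDefEq.respectTransparency.types false
universe u

open CategoryTheory CategoryTheory.Limits AlgebraicGeometry TopologicalSpace Opposite
open ProjFormLib (ger res ger_res exists_ger)
open CohCmpLib (stk)
open ExtShLib (pO hcx)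

noncomputable section

namespace FLI

variable {P X : Scheme.{u}} {ι : X ⟶ P} [IsClosedImmersion ι] {c : ℕ}

theorem pG_injective_of_kil {M : P.Modules} (hM : CycKSuppLib.Kil ι M) (z : X) : Function.Injective (pG ι M z) := by
  refine (injective_iff_map_eq_zero _).2 fun a ha => ?_
  rw [pG_eq_zero_iff] at ha
  refine Submodule.smul_induction_on ha (fun r hr n _ => hM.2 z r hr n) fun x y hx hy => by rw [hx, hy, add_zero]

variable {F : P.Modules} (I : InjectiveResolution F)

theorem frame_pullback {U : P.affineOpens} {g : Fin c → Γ(P, U.1)} (h : IsChart ι U g) {n : ℕ}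
    {e : Fin n → Γ(F, U.1)} (he : ProjFormLib.IsFrame F e) :
    ∃ s : Fin n → Γ((Scheme.Modules.pullback ι).obj ((hcx (pO ι) I).homology c), ι ⁻¹ᵁ U.1),
      ProjFormLib.IsFrame ((Scheme.Modules.pullback ι).obj ((hcx (pO ι) I).homology c)) s := by
  choose t ht using fun k => exists_theta_section I h (e k)
  refine ⟨fun k => KFlatLib.puSec ι (t k), fun z hz => ?_⟩
  have hcomb : ∀ a : Fin n → P.presheaf.stalk (ι z),
      Fintype.linearCombination (X.presheaf.stalk z)
        (fun k => ger ((Scheme.Modules.pullback ι).obj ((hcx (pO ι) I).homology c)) z hz (KFlatLib.puSec ι (t k)))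
        (fun k => ι.stalkMap z (a k)) =
      pG ι _ z (theta I h hz (Fintype.linearCombination (P.presheaf.stalk (ι z))
        (fun k => ger F (ι z) hz (e k)) a)) := by
    intro a
    rw [Fintype.linearCombination_apply, Fintype.linearCombination_apply, map_sum, map_sum]
    exact Finset.sum_congr rfl fun k _ => by rw [map_smul, pG_smul, ← ht k (ι z) hz, pG_ger]
  constructor
  · intro a b hab
    rw [← sub_eq_zero]
    have h0 := sub_eq_zero.2 hab
    rw [← map_sub] at h0
    generalize a - b = d at h0 ⊢
    choose r hr using fun k => stalkMap_surjective' ι z (d k)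
    obtain rfl : (fun k => ι.stalkMap z (r k)) = d := funext hr
    rw [hcomb] at h0
    have h1 := pG_injective_of_kil (kil_homology (I := I) c) z (h0.trans (map_zero _).symm)
    rw [theta_eq_zero_iff, ← h.ker_stalkMap hz] at h1
    let B := (Fintype.linearCombination (P.presheaf.stalk (ι z)) (fun k => ger F (ι z) hz (e k)))
    have h2 : ∀ x ∈ RingHom.ker (ι.stalkMap z).hom • (⊤ : Submodule (P.presheaf.stalk (ι z)) (stk F (ι z))),
        ∀ v, B v = x → ∀ k, ι.stalkMap z (v k) = 0 := by
      intro x hx
      refine Submodule.smul_induction_on (p := fun x => ∀ v, B v = x → ∀ k, ι.stalkMap z (v k) = 0) hx ?_ ?_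
      · intro s hs m _ v hv k
        obtain ⟨w, rfl⟩ := (he (ι z) hz).2 m
        have hvw : v = s • w := (he (ι z) hz).1 (hv.trans (map_smul B s w).symm)
        show (ι.stalkMap z).hom (v k) = 0
        rw [hvw, Pi.smul_apply, smul_eq_mul, map_mul, RingHom.mem_ker.1 hs, zero_mul]
      · intro x y hx hy v hv k
        obtain ⟨w, rfl⟩ := (he (ι z) hz).2 x
        obtain ⟨w', rfl⟩ := (he (ι z) hz).2 y
        have hvw : v = w + w' := (he (ι z) hz).1 (hv.trans (map_add B w w').symm)
        rw [hvw, Pi.add_apply, map_add, hx w rfl k, hy w' rfl k, add_zero]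
    exact funext fun k => h2 _ h1 r rfl k
  · intro b
    obtain ⟨x, rfl⟩ := pG_surjective ι _ z b
    obtain ⟨m, rfl⟩ := theta_surjective (I := I) h hz x
    obtain ⟨a, rfl⟩ := (he (ι z) hz).2 m
    exact ⟨fun k => ι.stalkMap z (a k), hcomb a⟩

theorem isFinLocFree_pullback_homology (hcov : ∀ z : X, ∃ (U : P.affineOpens) (g : Fin c → Γ(P, U.1)), ι z ∈ U.1 ∧
    IsChart ι U g) (hF : FlatMod.IsFinLocFree F) :
    FlatMod.IsFinLocFree ((Scheme.Modules.pullback ι).obj ((hcx (pO ι) I).homology c)) := by
  refine CohCmpLib.isFinLocFree_of_frames fun z => ?_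
  obtain ⟨U₀, g₀, hzU₀, h₀⟩ := hcov z
  obtain ⟨O, n, e, hzO, he⟩ := ProjFormLib.exists_frame hF (ι z)
  obtain ⟨U, hU, hzU, hUO, h⟩ := h₀.exists_le hzU₀ hzO
  obtain ⟨s, hs⟩ := frame_pullback I h (he.res hUO)
  exact ⟨ι ⁻¹ᵁ U.1, n, s, hzU, hs⟩

end FLI

end
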