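import Groth.Agent.FLILib.LocFree
import Groth.Agent.FLILib.CoReg
import Groth.Agent.ExtShLib.Dualizing
import Mathlib.CategoryTheory.Abelian.Injective.Ext

/-!
# Vanishing of the lower Ext sheaves of a regular immersion
-/

set_option autoImplicit false
set_option linter.style.haveILetI false
set_option linter.unusedSectionVars false
set_option backward.isDefEq.respectTransparency false
set_option backward.isDefEq.respectTransparency.types false
universe u

open CategoryTheory CategoryTheory.Limits AlgebraicGeometry TopologicalSpace Opposite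
open ProjFormLib (ger)
open CohCmpLib (stk)
open ExtShLib (pO hcx kcx)

noncomputable section

namespace FLI

theorem WReg.coReg_pi {A : Type u} [CommRing A] {c n : ℕ} {g : Fin c → A} (h : WReg g) :
    CoReg (Fin n → A) g := by
  intro i m hm
  classical
  have hproj : ∀ (x : Fin n → A), x ∈ Ideal.span (g '' {j | j < i}) • (⊤ : Submodule A (Fin n → A)) →
      ∀ k, x k ∈ Ideal.span (g '' {j | j < i}) := fun x hx =>
    Submodule.smul_induction_on (p := fun x => ∀ k, x k ∈ Ideal.span (g '' {j | j < i})) hx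
      (fun r hr v _ k => Ideal.mul_mem_right _ _ hr) (fun a b ha hb k => add_mem (ha k) (hb k))
  have hcoord : ∀ k, g i * m k ∈ Ideal.span (g '' {j | j < i}) := hproj (g i • m) hm
  have hm' : m = ∑ k, m k • (Pi.single k (1 : A) : Fin n → A) := by
    funext l
    simp [Finset.sum_apply, Pi.single_apply]
  rw [hm']
  exact Submodule.sum_mem _ fun k _ => Submodule.smul_mem_smul (h i _ (hcoord k)) Submodule.mem_top

theorem CoReg.of_equiv {A : Type u} [CommRing A] {M N : Type u} [AddCommGroup M] [Module A M] [AddCommGroup N]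
    [Module A N] (e : M ≃ₗ[A] N) {c : ℕ} {g : Fin c → A} (h : CoReg N g) : CoReg M g := by
  intro i m hm
  have h1 := Submodule.mem_map_of_mem (f := e.toLinearMap) hm
  rw [Submodule.map_smul'', Submodule.map_top, LinearEquiv.range] at h1
  have h2 := h i (e m) (by rw [← map_smul]; exact h1)
  have h3 := Submodule.mem_map_of_mem (f := e.symm.toLinearMap) h2
  rw [Submodule.map_smul'', Submodule.map_top, LinearEquiv.range] at h3
  simpa using h3

variable {P X : Scheme.{u}} {ι : X ⟶ P} [IsClosedImmersion ι] {c : ℕ}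

theorem coReg_stalk {U : P.affineOpens} {g : Fin c → Γ(P, U.1)} (h : IsChart ι U g) {F : P.Modules}
    (hF : FlatMod.IsFinLocFree F) {y : P} (hy : y ∈ U.1) : CoReg (stk F y) (gF hy g) := by
  obtain ⟨O, n, e, hyO, he⟩ := ProjFormLib.exists_frame hF y
  exact CoReg.of_equiv (LinearEquiv.ofBijective _ (he y hyO)).symm (h.wreg_germ hy).coReg_pi

theorem isZero_homology_lt (hcov : ∀ z : X, ∃ (U : P.affineOpens) (g : Fin c → Γ(P, U.1)), ι z ∈ U.1 ∧ IsChart ι U g)
    {F : P.Modules} (hF : FlatMod.IsFinLocFree F) (I : InjectiveResolution F) {q : ℕ} (hq : q < c) :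
    IsZero ((hcx (pO ι) I).homology q) := by
  refine KFlatLib.isZero_of_stalks fun y => ?_
  show Subsingleton (stk ((hcx (pO ι) I).homology q) y)
  by_cases hr : y ∈ Set.range ⇑ι
  · obtain ⟨z, rfl⟩ := hr
    obtain ⟨U, g, hz, h⟩ := hcov z
    refine subsingleton_of_forall_eq 0 fun e => ?_
    obtain ⟨w, hw⟩ := cls_surjective (I := I) e
    exact (hw.eq_zero_iff h hz).2 (bdy_of_coReg (dS_dS I (ι z)) (dS_εS I (ι z)) (εS_injective I (ι z))
      (fun p => h.reg_stalk (I.cocomplex.X p) hz) (colS I (ι z)) (colS0 I (ι z)) (coReg_stalk h hF hz) hq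
      hw.closed (hw.killed h hz))
  · exact subsingleton_homology_stalk q hr

theorem isZero_extSh_lt {d : ℕ} (hι : RegImm.IsRegularImmersionOfCodim RegImm.Kind.regular d ι)
    {F : P.Modules} (hF : FlatMod.IsFinLocFree F) [ModSite.HasSheafHom (O := P.sheaf) (pO ι)]
    [HasInjectiveResolutions (ModSite.Mod P.sheaf)] {q : ℕ} (hq : q < d) :
    IsZero ((ModSite.extSh (O := P.sheaf) (pO ι) q).obj F) := by
  haveI : HasInjectiveResolutions P.Modules := ‹HasInjectiveResolutions (ModSite.Mod P.sheaf)›
  let I : InjectiveResolution F := injectiveResolution F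
  obtain ⟨e⟩ := ExtShLib.nonempty_extSh_iso I (pO ι) q
  exact (isZero_homology_lt (exists_chart hι) hF I hq).of_iso e

variable (ι) in
theorem subsingleton_ext_push [HasExt.{u} P.Modules] {W : P.Modules} (I : InjectiveResolution W) {q : ℕ}
    (h : ∀ j ≤ q, (kcx ι I).ExactAt j) (F : X.Modules) :
    Subsingleton (Abelian.Ext ((Scheme.Modules.pushforward ι).obj F) W q) := by
  refine subsingleton_of_forall_eq 0 fun α => ?_
  obtain ⟨f, hf, rfl⟩ := I.extMk_surjective α (q + 1) rfl
  let adj := ExtShLib.shriekAdj ι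
  let f' : F ⟶ (kcx ι I).X q := adj.homEquiv F _ f
  have hf' : f' ≫ (kcx ι I).d q (q + 1) = 0 := by
    show adj.homEquiv F _ f ≫ (ExtShLib.shriek ι).map (I.cocomplex.d q (q + 1)) = 0
    rw [← adj.homEquiv_naturality_right, hf, adj.homEquiv_unit, Functor.map_zero, comp_zero]
  cases q with
  | zero =>
    have h0 := ((kcx ι I).exactAt_iff' 0 0 1 (by simp) (by simp)).1 (h 0 le_rfl)
    haveI : Mono ((kcx ι I).d 0 1) := (ShortComplex.exact_iff_mono _ ((kcx ι I).shape _ _ (by simp))).1 h0
    obtain rfl : f = 0 := by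
      refine (adj.homEquiv F _).injective (((cancel_mono ((kcx ι I).d 0 1)).1 (hf'.trans zero_comp.symm)).trans ?_)
      rw [adj.homEquiv_unit, Functor.map_zero, comp_zero]
    exact InjectiveResolution.extMk_zero _ _ _
  | succ k =>
    haveI : ∀ j, Injective ((kcx ι I).X j) := fun j => ExtShLib.injective_shriek ι (I.cocomplex.X j)
    obtain ⟨s, hs⟩ := ExtShLib.exists_splitting (kcx ι I) k fun j hj => h j (by omega)
    have hk := h (k + 1) le_rfl
    haveI : Epi ((kcx ι I).toCycles k (k + 1)) :=
      (((kcx ι I).exactAt_iff_isZero_homology _).1 hk) |> fun hz =>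
        Preadditive.epi_of_isZero_cokernel' _ ((kcx ι I).homologyIsCokernel k (k + 1) (by simp)) hz
    have hs' : (kcx ι I).iCycles (k + 1) ≫ s ≫ (kcx ι I).d k (k + 1) = (kcx ι I).iCycles (k + 1) := by
      rw [← cancel_epi ((kcx ι I).toCycles k (k + 1)), HomologicalComplex.toCycles_i_assoc,
        HomologicalComplex.toCycles_i, hs]
    rw [InjectiveResolution.extMk_eq_zero_iff _ _ _ _ _ k rfl]
    refine ⟨(adj.homEquiv F _).symm (f' ≫ s), ?_⟩
    rw [← adj.homEquiv_naturality_right_symm, Equiv.symm_apply_eq]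
    show (f' ≫ s) ≫ (kcx ι I).d k (k + 1) = f'
    rw [← (kcx ι I).liftCycles_i f' (k + 1 + 1) (by simp) hf', Category.assoc, Category.assoc, hs']

end FLI

end
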