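import Groth.Agent.FLILib.Ev
import Groth.Agent.KFlatLib.PullTensor
import Mathlib.LinearAlgebra.TensorProduct.Quotient

/-!
# Stalks of the pullback along a closed immersion
-/

set_option autoImplicit false
set_option linter.style.haveILetI false
set_option linter.unusedSectionVars false
set_option backward.isDefEq.respectTransparency false
set_option backward.isDefEq.respectTransparency.types false
universe u

open CategoryTheory CategoryTheory.Limits AlgebraicGeometry TopologicalSpace Opposite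
open ProjFormLib (ger res ger_res ger_map exists_ger)
open CohCmpLib (stk)
open ExtShLib (pO)
open scoped TensorProduct

noncomputable section

namespace FLI

theorem extend_tmul {A B : Type u} [CommRing A] [CommRing B] (f : A →+* B) (M : ModuleCat.{u} A) (N : ModuleCat.{u} B)
    (ψ : (ModuleCat.extendScalars f).obj M ⟶ N) (b b' : B) (a : M) :
    letI := f.toAlgebra
    ψ.hom ((b * b') ⊗ₜ[A] a) = b • ψ.hom (b' ⊗ₜ[A] a) := by
  letI := f.toAlgebra
  refine Eq.trans ?_ (ψ.hom.map_smul b _)
  exact congrArg ψ.hom (ModuleCat.ExtendScalars.smul_tmul f b b' a).symm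

theorem mem_of_one_tmul_eq_zero {A B M : Type u} [CommRing A] [CommRing B] [Algebra A B] [AddCommGroup M] [Module A M]
    (hs : Function.Surjective (algebraMap A B)) {a : M} (h : (1 : B) ⊗ₜ[A] a = 0) :
    a ∈ RingHom.ker (algebraMap A B) • (⊤ : Submodule A M) := by
  let K := RingHom.ker (algebraMap A B)
  let e : B ≃ₗ[A] (A ⧸ K) := (LinearMap.quotKerEquivOfSurjective (Algebra.linearMap A B) hs).symm
  have he : e 1 = Ideal.Quotient.mk K 1 := by
    rw [LinearEquiv.symm_apply_eq]
    exact (map_one (algebraMap A B)).symm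
  have h2 := congrArg (TensorProduct.quotTensorEquivQuotSMul M K) (congrArg (LinearEquiv.rTensor M e) h)
  rw [LinearEquiv.rTensor_tmul, map_zero, map_zero, he, TensorProduct.quotTensorEquivQuotSMul_mk_tmul, one_smul] at h2
  exact (Submodule.Quotient.mk_eq_zero _).1 h2

variable {P X : Scheme.{u}} (ι : X ⟶ P)

/-- The algebra structure on the stalks. -/
@[reducible] def algS (z : X) : Algebra (P.presheaf.stalk (ι z)) (X.presheaf.stalk z) := (ι.stalkMap z).hom.toAlgebra

/-- The stalk of the pullback as a tensor product. -/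
def tS (M : P.Modules) (z : X) :
    letI := algS ι z
    (X.presheaf.stalk z ⊗[P.presheaf.stalk (ι z)] stk M (ι z)) →+ stk ((Scheme.Modules.pullback ι).obj M) z :=
  (((KFlatLib.stalkPullIso ι z).inv.app M).hom).toAddMonoidHom

theorem tS_bijective (M : P.Modules) (z : X) : Function.Bijective (tS ι M z) :=
  ConcreteCategory.bijective_of_isIso ((KFlatLib.stalkPullIso ι z).inv.app M)

theorem tS_ger (M : P.Modules) {U : P.Opens} {z : X} (hz : ι z ∈ U) (m : Γ(M, U)) :
    letI := algS ι z
    tS ι M z ((1 : X.presheaf.stalk z) ⊗ₜ[P.presheaf.stalk (ι z)] ger M (ι z) hz m) =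
      ger ((Scheme.Modules.pullback ι).obj M) z (U := ι ⁻¹ᵁ U) hz (KFlatLib.puSec ι m) :=
  KFlatLib.stalkPullInv_germ ι M z hz m

theorem tS_tmul (M : P.Modules) (z : X) (b b' : X.presheaf.stalk z) (a : stk M (ι z)) :
    letI := algS ι z
    tS ι M z ((b * b') ⊗ₜ[P.presheaf.stalk (ι z)] a) = b • tS ι M z (b' ⊗ₜ[P.presheaf.stalk (ι z)] a) :=
  extend_tmul (ι.stalkMap z).hom _ _ ((KFlatLib.stalkPullIso ι z).inv.app M) b b' a

/-- `M_{ι z} → (ι^* M)_z`. -/
def pG (M : P.Modules) (z : X) : stk M (ι z) →+ stk ((Scheme.Modules.pullback ι).obj M) z :=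
  letI := algS ι z
  (tS ι M z).comp
    { toFun := fun a => (1 : X.presheaf.stalk z) ⊗ₜ[P.presheaf.stalk (ι z)] a
      map_zero' := TensorProduct.tmul_zero _ _
      map_add' := fun a b => TensorProduct.tmul_add _ _ _ }

theorem pG_ger (M : P.Modules) {U : P.Opens} {z : X} (hz : ι z ∈ U) (m : Γ(M, U)) :
    pG ι M z (ger M (ι z) hz m) =
      ger ((Scheme.Modules.pullback ι).obj M) z (U := ι ⁻¹ᵁ U) hz (KFlatLib.puSec ι m) :=
  tS_ger ι M hz m

theorem pG_smul (M : P.Modules) (z : X) (r : P.presheaf.stalk (ι z)) (a : stk M (ι z)) :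
    pG ι M z (r • a) = ι.stalkMap z r • pG ι M z a := by
  letI := algS ι z
  show tS ι M z ((1 : X.presheaf.stalk z) ⊗ₜ[P.presheaf.stalk (ι z)] (r • a)) =
    ι.stalkMap z r • tS ι M z ((1 : X.presheaf.stalk z) ⊗ₜ[P.presheaf.stalk (ι z)] a)
  rw [← tS_tmul, mul_one, ← TensorProduct.smul_tmul, Algebra.smul_def, mul_one]
  rfl

theorem pG_natural {M N : P.Modules} (φ : M ⟶ N) (z : X) (a : stk M (ι z)) :
    pG ι N z (((DerSch.stalkFunctor P (ι z)).map φ).hom a) =
      ((DerSch.stalkFunctor X z).map ((Scheme.Modules.pullback ι).map φ)).hom (pG ι M z a) := by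
  obtain ⟨U, hU, m, rfl⟩ := exists_ger M (ι z) a
  rw [ger_map, pG_ger, pG_ger, ger_map, KFlatLib.puSec_natural]

variable [IsClosedImmersion ι]

theorem stalkMap_surjective' (z : X) : Function.Surjective (ι.stalkMap z) :=
  ι.stalkMap_surjective z

theorem pG_surjective (M : P.Modules) (z : X) : Function.Surjective (pG ι M z) := by
  letI := algS ι z
  intro b
  obtain ⟨t, rfl⟩ := (tS_bijective ι M z).2 b
  have hs : Function.Surjective fun a : stk M (ι z) => ((1 : X.presheaf.stalk z) ⊗ₜ[P.presheaf.stalk (ι z)] a) := by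
    refine fun t => ?_
    induction t using TensorProduct.induction_on with
    | zero => exact ⟨0, TensorProduct.tmul_zero _ _⟩
    | tmul r a =>
      obtain ⟨r, rfl⟩ := stalkMap_surjective' ι z r
      refine ⟨r • a, ?_⟩
      show _ ⊗ₜ[P.presheaf.stalk (ι z)] (r • a) = _
      rw [← TensorProduct.smul_tmul, Algebra.smul_def, mul_one]
      rfl
    | add a b ha hb =>
      obtain ⟨a', rfl⟩ := ha
      obtain ⟨b', rfl⟩ := hb
      exact ⟨a' + b', TensorProduct.tmul_add _ _ _⟩
  obtain ⟨a, rfl⟩ := hs t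
  exact ⟨a, rfl⟩

theorem pG_eq_zero_iff (M : P.Modules) (z : X) (a : stk M (ι z)) :
    pG ι M z a = 0 ↔
      a ∈ RingHom.ker (ι.stalkMap z).hom • (⊤ : Submodule (P.presheaf.stalk (ι z)) (stk M (ι z))) := by
  letI := algS ι z
  constructor
  · intro h
    have h1 : (1 : X.presheaf.stalk z) ⊗ₜ[P.presheaf.stalk (ι z)] a = 0 :=
      (tS_bijective ι M z).1 (h.trans (map_zero _).symm)
    exact mem_of_one_tmul_eq_zero (stalkMap_surjective' ι z) h1
  · intro h
    refine Submodule.smul_induction_on h (fun r hr n _ => ?_) (fun x y hx hy => by rw [map_add, hx, hy, add_zero])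
    rw [pG_smul, show ι.stalkMap z r = 0 from hr, zero_smul]

variable {ι} {c : ℕ} {U : P.affineOpens} {g : Fin c → Γ(P, U.1)}

theorem IsChart.ker_stalkMap (h : IsChart ι U g) {z : X} (hz : ι z ∈ U.1) :
    RingHom.ker (ι.stalkMap z).hom = Ideal.span (Set.range (gF hz g)) := by
  refine le_antisymm (fun r hr => ?_) (Ideal.span_le.2 ?_)
  · refine h.mem_span_of_smul_uS hz r ?_
    obtain ⟨W, hW, r, rfl⟩ := P.presheaf.exists_germ_eq r
    rw [RingHom.mem_ker] at hr
    refine (ProjClosedImmLib.pS_bijective ι z (Coh.structureModule X)).1 ?_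
    rw [map_zero]
    refine (ProjClosedImmLib.pS_smul ι z (Coh.structureModule X) _ _).trans ?_
    exact (congrArg (· • _) hr).trans (zero_smul _ _)
  · rintro _ ⟨j, rfl⟩
    have hj : g j ∈ ι.ker.ideal U := h.ideal_eq ▸ Ideal.subset_span ⟨j, rfl⟩
    rw [Scheme.Hom.ker_apply, RingHom.mem_ker] at hj
    show (ι.stalkMap z) (P.presheaf.germ U.1 (ι z) hz (g j)) = 0
    rw [Scheme.Hom.germ_stalkMap_apply]
    exact (congrArg _ hj).trans (map_zero _)

end FLI

end
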