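import Groth.Agent.FLILib.Stalks

/-!
# The local isomorphism between the module modulo the ideal and the top Ext sheaf
-/

set_option autoImplicit false
set_option linter.style.haveILetI false
set_option linter.unusedSectionVars false
set_option backward.isDefEq.respectTransparency false
set_option backward.isDefEq.respectTransparency.types false
universe u v

open CategoryTheory CategoryTheory.Limits AlgebraicGeometry TopologicalSpace Opposite
open ProjFormLib (ger res ger_res ger_map ger_smul section_ext)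
open CohCmpLib (stk)
open ExtShLib (pO hcx)

noncomputable section

namespace FLI

section Compare

variable {A B : Type u} [CommRing A] [CommRing B] [Algebra A B] {c : ℕ}
  {J' : ℕ → Type v} [∀ q, AddCommGroup (J' q)] [∀ q, Module A (J' q)]
  {J : ℕ → Type v} [∀ q, AddCommGroup (J q)] [∀ q, Module A (J q)] [∀ q, Module B (J q)]
  [∀ q, IsScalarTower A B (J q)]
  {M' : Type v} [AddCommGroup M'] [Module A M'] {M : Type v} [AddCommGroup M] [Module A M] [Module B M]
  [IsScalarTower A B M]

/-- Witnesses over two base rings differ by a boundary. -/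
theorem bdy_of_rel_rel {g : Fin c → A} {d' : ∀ q, J' q →ₗ[A] J' (q + 1)} {ε' : M' →ₗ[A] J' 0}
    {dB : ∀ q, J q →ₗ[B] J (q + 1)} {εB : M →ₗ[B] J 0} (hd : ∀ q x, dB (q + 1) (dB q x) = 0)
    (hrow : ∀ q, Reg (J q) fun j => algebraMap A B (g j))
    (f : ∀ q, J' q →ₗ[A] J q) (hf : ∀ q x, dB q (f q x) = f (q + 1) (d' q x))
    (fM : M' →ₗ[A] M) (hfM : ∀ m, εB (fM m) = f 0 (ε' m)) {m : M'} {w' : J' c} {w : J c}
    (h' : Rel g d' ε' m w') (h : Rel (fun j => algebraMap A B (g j)) dB εB (fM m) w) :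
    Bdy (fun j => algebraMap A B (g j)) dB c (f c w' - w) := by
  let dA : ∀ q, J q →ₗ[A] J (q + 1) := fun q => (dB q).restrictScalars A
  let εA : M →ₗ[A] J 0 := εB.restrictScalars A
  have h1 : Rel g dA εA (fM m) (f c w') := by
    have := zig_map (d' := dA) f hf h'
    rwa [show (f 0).compAlternatingMap (detAlt A c (ε' m)) = detAlt A c (εA (fM m)) from
      AlternatingMap.ext fun x => by
        rw [LinearMap.compAlternatingMap_apply, detAlt_apply, detAlt_apply, map_smul, ← hfM]
        rfl] at this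
  have h2 : Rel g dA εA (fM m) w := by
    have := zig_res (g := g) (d := dA) (B := B) (dB := dB) (fun _ _ => rfl) h
    rwa [resAlt_detAlt] at this
  have hrow' : ∀ q, Reg (J q) g := fun q i x hx => by
    obtain ⟨t, ht, ht'⟩ := hrow q i x fun j hj => (algebraMap_smul B (g j) x).trans (hx j hj)
    exact ⟨t, fun j hj => (algebraMap_smul B (g j) t).symm.trans (ht j hj), (algebraMap_smul B (g i) t).symm.trans ht'⟩
  have h3 := rel_unique (d := dA) (fun q x => hd q x) hrow' h1 h2
  cases c with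
  | zero => exact h3
  | succ k =>
    obtain ⟨r, hr, hr'⟩ := h3
    exact ⟨r, fun j => (algebraMap_smul B (g j) r).trans (hr j), hr'⟩

end Compare

variable {P X : Scheme.{u}} {ι : X ⟶ P} [IsClosedImmersion ι] {c : ℕ} {F : P.Modules}
  (I : InjectiveResolution F) {U : P.affineOpens} {g : Fin c → Γ(P, U.1)} {y : P}

variable (ι) in
/-- The comparison relation at a point. -/
def ΘR (y : P) (f : Fin c → P.presheaf.stalk y) (m : stk F y) (e : stk ((hcx (pO ι) I).homology c) y) : Prop :=
  ∃ w, Rel f (dS I y) (εS I y) m w ∧ Cls I y ι c w e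

variable {I}

theorem exists_theta (hc : IsChart ι U g) (hy : y ∈ U.1) (m : stk F y) : ∃ e, ΘR ι I y (gF hy g) m e := by
  obtain ⟨w, h1, h2, h3⟩ := exists_rel (dS_dS I y) (dS_εS I y) (fun q => hc.reg_stalk (I.cocomplex.X q) hy) m
  obtain ⟨e, he⟩ := exists_cls hc hy w h1 h2
  exact ⟨e, w, h3, he⟩

theorem theta_unique (hc : IsChart ι U g) (hy : y ∈ U.1) {m : stk F y} {e e' : stk ((hcx (pO ι) I).homology c) y}
    (h : ΘR ι I y (gF hy g) m e) (h' : ΘR ι I y (gF hy g) m e') : e = e' := by
  obtain ⟨w, hw, he⟩ := h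
  obtain ⟨w', hw', he'⟩ := h'
  exact sub_eq_zero.1 (((he.sub he').eq_zero_iff hc hy).2
    (rel_unique (dS_dS I y) (fun q => hc.reg_stalk (I.cocomplex.X q) hy) hw hw'))

theorem ΘR.sub {f : Fin c → P.presheaf.stalk y} {m m' : stk F y} {e e' : stk ((hcx (pO ι) I).homology c) y}
    (h : ΘR ι I y f m e) (h' : ΘR ι I y f m' e') : ΘR ι I y f (m - m') (e - e') := by
  obtain ⟨w, hw, he⟩ := h
  obtain ⟨w', hw', he'⟩ := h'
  exact ⟨w - w', rel_sub hw hw', he.sub he'⟩

theorem ΘR.smul (a : P.presheaf.stalk y) {f : Fin c → P.presheaf.stalk y} {m : stk F y}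
    {e : stk ((hcx (pO ι) I).homology c) y} (h : ΘR ι I y f m e) : ΘR ι I y f (a • m) (a • e) := by
  obtain ⟨w, hw, he⟩ := h
  exact ⟨a • w, rel_smul a hw, he.smul a⟩

theorem ΘR.comap {f f' : Fin c → P.presheaf.stalk y}
    (T : (Fin c → P.presheaf.stalk y) →ₗ[P.presheaf.stalk y] (Fin c → P.presheaf.stalk y))
    (hT : ∀ x, lf f (T x) = lf f' x) {m : stk F y} {e : stk ((hcx (pO ι) I).homology c) y}
    (h : ΘR ι I y f m e) : ΘR ι I y f' (LinearMap.det T • m) e := by
  obtain ⟨w, hw, he⟩ := h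
  exact ⟨w, rel_comap T hT hw, he⟩

variable (I) in
/-- The comparison map at a point. -/
def theta (hc : IsChart ι U g) (hy : y ∈ U.1) : stk F y →ₗ[P.presheaf.stalk y] stk ((hcx (pO ι) I).homology c) y where
  toFun m := (exists_theta hc hy m).choose
  map_add' a b := by
    have ha := (exists_theta (I := I) hc hy a).choose_spec
    have hb := (exists_theta (I := I) hc hy b).choose_spec
    have hab := (exists_theta (I := I) hc hy (a + b)).choose_spec
    have h := hab.sub hb
    rw [add_sub_cancel_right] at h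
    exact sub_eq_iff_eq_add.1 (theta_unique hc hy h ha)
  map_smul' r a :=
    theta_unique hc hy (exists_theta (I := I) hc hy (r • a)).choose_spec
      ((exists_theta (I := I) hc hy a).choose_spec.smul r)

theorem theta_spec (hc : IsChart ι U g) (hy : y ∈ U.1) (m : stk F y) : ΘR ι I y (gF hy g) m (theta I hc hy m) :=
  (exists_theta (I := I) hc hy m).choose_spec

theorem theta_surjective (hc : IsChart ι U g) (hy : y ∈ U.1) : Function.Surjective (theta I hc hy) := by
  intro e
  obtain ⟨w, hw⟩ := cls_surjective (I := I) e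
  obtain ⟨m, hm⟩ := rel_surj (g := gF hy g) (ε := εS I y) (colS I y) (colS0 I y) hw.closed (hw.killed hc hy)
  exact ⟨m, theta_unique hc hy (theta_spec hc hy m) ⟨w, hm, hw⟩⟩

theorem theta_eq_zero_iff (hc : IsChart ι U g) (hy : y ∈ U.1) (m : stk F y) :
    theta I hc hy m = 0 ↔ m ∈ Ideal.span (Set.range (gF hy g)) • (⊤ : Submodule (P.presheaf.stalk y) (stk F y)) := by
  constructor
  · intro h
    obtain ⟨w, hw, he⟩ := theta_spec (I := I) hc hy m
    exact rel_inj (colS I y) (colS0 I y) (εS_injective I y) hw ((he.eq_zero_iff hc hy).1 h)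
  · intro h
    refine Submodule.smul_induction_on h (fun r hr n _ => ?_) (fun a b ha hb => by rw [map_add, ha, hb, add_zero])
    rw [map_smul]
    refine Submodule.span_induction (p := fun r _ => r • theta I hc hy n = 0) ?_ (zero_smul _ _)
      (fun a b _ _ ha hb => by rw [add_smul, ha, hb, add_zero]) (fun a b _ hb => by rw [smul_assoc, hb, smul_zero]) hr
    rintro _ ⟨j, rfl⟩
    obtain ⟨w, -, he⟩ := theta_spec (I := I) hc hy n
    have h0 := he.smul (gF hy g j)
    rw [he.killed hc hy j] at h0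
    refine (h0.eq_zero_iff hc hy).2 ?_
    cases c with
    | zero => rfl
    | succ k => exact ⟨0, fun _ => smul_zero _, map_zero _⟩

/-- Change of generators. -/
theorem theta_comap {U' : P.affineOpens} {g' : Fin c → Γ(P, U'.1)} (hc : IsChart ι U g) (hy : y ∈ U.1)
    (hc' : IsChart ι U' g') (hy' : y ∈ U'.1)
    (T : (Fin c → P.presheaf.stalk y) →ₗ[P.presheaf.stalk y] (Fin c → P.presheaf.stalk y))
    (hT : ∀ x, lf (gF hy g) (T x) = lf (gF hy' g') x) (m : stk F y) :
    theta I hc' hy' (LinearMap.det T • m) = theta I hc hy m :=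
  theta_unique hc' hy' (theta_spec hc' hy' _) ((theta_spec hc hy m).comap T hT)

/-- The same germs give the same map. -/
theorem theta_congr {U' : P.affineOpens} {g' : Fin c → Γ(P, U'.1)} (hc : IsChart ι U g) (hy : y ∈ U.1)
    (hc' : IsChart ι U' g') (hy' : y ∈ U'.1) (h : gF hy g = gF hy' g') (m : stk F y) :
    theta I hc' hy' m = theta I hc hy m := by
  refine theta_unique hc' hy' (theta_spec hc' hy' _) ?_
  rw [← h]
  exact theta_spec hc hy m

variable (I) in
/-- The comparison maps send sections to sections. -/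
theorem exists_theta_section (hc : IsChart ι U g) (m : Γ(F, U.1)) :
    ∃ e : Γ((hcx (pO ι) I).homology c, U.1), ∀ y (hy : y ∈ U.1),
      ger ((hcx (pO ι) I).homology c) y hy e = theta I hc hy (ger F y hy m) := by
  let A := Γ(P, U.1)
  let J' : ℕ → Type u := fun q => Γ(I.cocomplex.X q, U.1)
  let d' : ∀ q, J' q →ₗ[A] J' (q + 1) := fun q =>
    { toFun := fun x => (I.cocomplex.d q (q + 1)).app U.1 x
      map_add' := fun a b => map_add _ a b
      map_smul' := fun r a => Scheme.Modules.Hom.app_smul (I.cocomplex.d q (q + 1)) r a }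
  let ε' : Γ(F, U.1) →ₗ[A] J' 0 :=
    { toFun := fun x => (show F ⟶ I.cocomplex.X 0 from I.ι.f 0).app U.1 x
      map_add' := fun a b => map_add _ a b
      map_smul' := fun r a => Scheme.Modules.Hom.app_smul (show F ⟶ I.cocomplex.X 0 from I.ι.f 0) r a }
  have hd : ∀ q x, d' (q + 1) (d' q x) = 0 := fun q x =>
    congrArg (fun φ : I.cocomplex.X q ⟶ I.cocomplex.X (q + 1 + 1) => φ.app U.1 x) (I.cocomplex.d_comp_d _ _ _)
  have hε : ∀ x, d' 0 (ε' x) = 0 := fun x =>
    congrArg (fun φ : F ⟶ I.cocomplex.X 1 => φ.app U.1 x)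
      (show (show F ⟶ I.cocomplex.X 0 from I.ι.f 0) ≫ I.cocomplex.d 0 1 = 0 from I.ι_f_zero_comp_complex_d)
  obtain ⟨w, hw1, hw2, hw3⟩ := exists_rel (g := g) hd hε (fun q => hc.reg_sections (I.cocomplex.X q)) m
  have hkill : ∀ y (hy : y ∈ U.1) j, gF hy g j • ger (I.cocomplex.X c) y hy w = 0 := fun y hy j => by
    rw [← ger_smul, hw2 j, CohCmpLib.ger_zero]
  obtain ⟨a, ha⟩ := exists_lift_section (jK I ι c) (fun y => jK_injective I y ι c) w
    fun y hy => hc.exists_jEv hy _ (hkill y hy)
  have hda : ((hcx (pO ι) I).d c (c + 1)).app U.1 a = 0 := by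
    refine section_ext _ _ fun y hy => jK_injective I y ι (c + 1) ?_
    rw [ger_map, CohCmpLib.ger_zero, map_zero]
    have e1 : (jK I ι (c + 1)).app U.1 (((hcx (pO ι) I).d c (c + 1)).app U.1 a) =
        (I.cocomplex.d c (c + 1)).app U.1 ((jK I ι c).app U.1 a) :=
      congrArg (fun φ : (hcx (pO ι) I).X c ⟶ I.cocomplex.X (c + 1) => φ.app U.1 a) (jK_d I ι c)
    rw [e1, ha, show (I.cocomplex.d c (c + 1)).app U.1 w = 0 from hw1]
    exact CohCmpLib.ger_zero _ y hy
  obtain ⟨z, hz⟩ := exists_lift_section ((hcx (pO ι) I).iCycles c) (fun y => sMap_injective _ y) a fun y hy =>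
    exists_of_exact _ _ _
      (ShortComplex.exact_of_f_is_kernel (ShortComplex.mk ((hcx (pO ι) I).iCycles c) ((hcx (pO ι) I).d c (c + 1))
        (HomologicalComplex.iCycles_d _ _ _)) ((hcx (pO ι) I).cyclesIsKernel c (c + 1) (by simp))) y
      ((ger_map _ y hy a).trans ((congrArg (ger _ y hy) hda).trans (CohCmpLib.ger_zero _ y hy)))
  refine ⟨((hcx (pO ι) I).homologyπ c).app U.1 z, fun y hy => ?_⟩
  have hcls : Cls I y ι c (ger (I.cocomplex.X c) y hy w) (ger _ y hy (((hcx (pO ι) I).homologyπ c).app U.1 z)) :=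
    ⟨ger _ y hy z, ger_map _ y hy z, by rw [sMap, sMap, ger_map, ger_map, hz, ha]⟩
  obtain ⟨v, hv, hve⟩ := theta_spec (I := I) hc hy (ger F y hy m)
  refine sub_eq_zero.1 (((hcls.sub hve).eq_zero_iff hc hy).2 ?_)
  letI : Algebra A (P.presheaf.stalk y) := (P.presheaf.germ U.1 y hy).hom.toAlgebra
  letI instJ : ∀ q, Module A (JS I y q) := fun q => Module.compHom _ (algebraMap A (P.presheaf.stalk y))
  letI instF : Module A (stk F y) := Module.compHom _ (algebraMap A (P.presheaf.stalk y))
  haveI : ∀ q, IsScalarTower A (P.presheaf.stalk y) (JS I y q) := fun q =>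
    IsScalarTower.of_algebraMap_smul fun _ _ => rfl
  haveI : IsScalarTower A (P.presheaf.stalk y) (stk F y) := IsScalarTower.of_algebraMap_smul fun _ _ => rfl
  let f : ∀ q, J' q →ₗ[A] JS I y q := fun q =>
    { toFun := fun x => ger (I.cocomplex.X q) y hy x
      map_add' := fun a b => ProjFormLib.ger_add _ y hy a b
      map_smul' := fun r a => ger_smul _ y hy r a }
  let fM : Γ(F, U.1) →ₗ[A] stk F y :=
    { toFun := fun x => ger F y hy x
      map_add' := fun a b => ProjFormLib.ger_add _ y hy a b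
      map_smul' := fun r a => ger_smul _ y hy r a }
  exact bdy_of_rel_rel (J := JS I y) (dB := dS I y) (εB := εS I y) (dS_dS I y)
    (fun q => hc.reg_stalk (I.cocomplex.X q) hy) f
    (fun q x => ger_map (I.cocomplex.d q (q + 1)) y hy x) fM (fun x => ger_map _ y hy x) hw3 hv

end FLI

end
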